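import Groth.Agent.Serre71.Complex

/-! Exactness of the model complex and finiteness of the cohomology of its kernel. -/

set_option linter.unusedSectionVars false
set_option linter.style.haveILetI false
set_option maxSynthPendingDepth 6
set_option backward.isDefEq.respectTransparency.types false

universe u

noncomputable section

open CategoryTheory Limits AlgebraicGeometry TopologicalSpace Opposite

namespace Groth.Agent.Serre71

open Pn71 QC70 Crv77

variable {X : Scheme.{u}}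

lemma epi_of_app_surjective {M N : X.Modules} (φ : M ⟶ N) {κ : Type*} (U : κ → X.Opens)
    (hcov : ⨆ k, U k = ⊤) (hU : ∀ k, IsAffineOpen (U k)) (hN : ∀ k, IsLocAt N (U k))
    (h : ∀ k, Function.Surjective (φ.app (U k))) : Epi φ := by
  refine epi_of_locally_surjective φ fun W s q hq => ?_
  obtain ⟨k, hk⟩ := Opens.mem_iSup.mp (hcov.ge (Set.mem_univ q : q ∈ (⊤ : X.Opens)))
  obtain ⟨f, hfW, hqf⟩ := (hU k).exists_basicOpen_le ⟨q, hq⟩ hk
  obtain ⟨m, t, ht⟩ := (hN k).exists_of f (res N hfW s)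
  obtain ⟨x, rfl⟩ := h k t
  have hu : IsUnit (resO X (X.basicOpen_le f) f ^ m) :=
    (RingedSpace.isUnit_res_basicOpen _ f).pow m
  obtain ⟨c, hc⟩ := hu.exists_left_inv
  refine ⟨X.basicOpen f, hfW, c • res M (X.basicOpen_le f) x, hqf, ?_⟩
  rw [Scheme.Modules.Hom.app_smul, app_res, ht, smul_smul, hc, one_smul]

lemma isQuasicoherent_biproduct {κ : Type} [Finite κ] (M : κ → X.Modules)
    (h : ∀ k, (M k).IsQuasicoherent) : (⨁ M).IsQuasicoherent := by
  obtain ⟨m, ⟨e⟩⟩ := Finite.exists_equiv_fin κ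
  refine isQuasicoherent_of_iso (biproduct.reindex e.symm M) ?_
  exact biproduct_induction (X := X) (fun N => SheafOfModules.IsQuasicoherent N) (fun _ hN => isQuasicoherent_of_isZero hN)
    (fun S hS h1 h3 => haveI := h1; haveI := h3; isQuasicoherent_X₂ S hS) _ fun i => h _

variable {A : Type u} [CommRing A] [X.Over (Spec (CommRingCat.of A))] {y : X} [Algebra A (Kf y)]
  (halg : Spec.map (CommRingCat.ofHom (algebraMap A (Kf y))) =
    X.fromSpecResidueField y ≫ X ↘ Spec (CommRingCat.of A))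

namespace Charts

variable (C : Charts A y) [IsProper (X ↘ Spec (CommRingCat.of A))] (n : ℤ)

instance isQuasicoherent_Cp (p : ℕ) : (C.Cp halg p).IsQuasicoherent :=
  isQuasicoherent_biproduct _ fun σ => C.isQuasicoherent_Q halg σ

lemma subsingleton_hh_Cp (p q : ℕ) : Subsingleton (Coh.HH X (C.Cp halg p) (q + 1)) := by
  refine subsingleton_hh_biproduct (A := A) _ _ fun σ => ?_
  obtain ⟨e⟩ := Coh69.nonempty_hh_push (C.g halg σ) (unitMod _) (q + 1)
  haveI := CechComp71.subsingleton_HH_affine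
    (unitMod (Spec (CommRingCat.of (C.Bs σ)))) (Nat.succ_pos q)
  exact e.symm.toEquiv.subsingleton

/-- The cocycles. -/
abbrev Zp (p : ℕ) : X.Modules := kernel (C.d halg n p)

instance isQuasicoherent_Zp (p : ℕ) : (C.Zp halg n p).IsQuasicoherent :=
  isQuasicoherent_kernel _

/-- Values of a cocycle. -/
def evZ (p : ℕ) {W : X.Opens} (hy : y ∈ W) :
    Γ(C.Zp halg n p, W) →+ ((Fin (p + 1) → C.Idx) → Kf y) :=
  (C.ev halg n hy).comp ((kernel.ι (C.d halg n p)).app W).hom

lemma evZ_injective (p : ℕ) {W : X.Opens} (hy : y ∈ W) :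
    Function.Injective (C.evZ halg n p hy) :=
  (C.ev_injective halg hy).comp (app_injective_of_mono _ W)

lemma dd_evZ (p : ℕ) {W : X.Opens} (hy : y ∈ W) (z : Γ(C.Zp halg n p, W)) :
    dd (C.evZ halg n p hy z) = 0 := by
  refine (C.ev_d halg hy _).symm.trans ?_
  rw [show (C.d halg n p).app W ((kernel.ι (C.d halg n p)).app W z) = 0 from
    congr((Scheme.Modules.Hom.app $(kernel.condition (C.d halg n p)) W) z)]
  exact map_zero _

lemma exists_evZ_eq (p : ℕ) {W : X.Opens} (hy : y ∈ W) {c : (Fin (p + 1) → C.Idx) → Kf y}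
    (hc : c ∈ Set.range (C.ev halg n (p := p) hy)) (hd : dd c = 0) :
    ∃ z, C.evZ halg n p hy z = c := by
  obtain ⟨x, rfl⟩ := hc
  have h : (C.d halg n p).app W x = 0 := C.ev_injective halg hy (by
    rw [ev_d, hd, map_zero])
  obtain ⟨z, hz⟩ := exists_kernel_app_eq _ W x h
  exact ⟨z, congrArg (C.ev halg n hy) hz⟩

lemma evZ_res (p : ℕ) {W W' : X.Opens} (h : W' ≤ W) (hy : y ∈ W') (z : Γ(C.Zp halg n p, W)) :
    C.evZ halg n p hy (res _ h z) = C.evZ halg n p (h hy) z :=
  (congrArg (C.ev halg n hy) (app_res _ h z)).trans (C.ev_res halg h hy _)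

lemma evZ_smul (p : ℕ) {V : X.Opens} (hV : IsAffineOpen V) (hy : y ∈ V) (a : Γ(X, V))
    (z : Γ(C.Zp halg n p, V)) : letI := evalAlg V hy;
      C.evZ halg n p hy (a • z) = a • C.evZ halg n p hy z := by
  letI := evalAlg V hy
  exact (congrArg (C.ev halg n hy) (Scheme.Modules.Hom.app_smul _ a z)).trans
    (C.ev_smul halg hV hy a _)

include halg in
lemma evZ_smul_top (p : ℕ) (a : A) (z : Γ(C.Zp halg n p, ⊤)) :
    C.evZ halg n p (W := ⊤) trivial (globalA A X a • z) =
      a • C.evZ halg n p (W := ⊤) trivial z :=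
  (congrArg (C.ev halg n (W := ⊤) trivial) (Scheme.Modules.Hom.app_smul _ _ z)).trans
    (C.ev_smul_top halg a _)

/-- The differential into the cocycles. -/
def dZ (p : ℕ) : C.Cp halg p ⟶ C.Zp halg n (p + 1) :=
  kernel.lift _ (C.d halg n p) (C.d_d halg n p)

lemma dZ_ι (p : ℕ) : C.dZ halg n p ≫ kernel.ι _ = C.d halg n p := kernel.lift_ι _ _ _

lemma evZ_dZ (p : ℕ) {W : X.Opens} (hy : y ∈ W) (x : Γ(C.Cp halg p, W)) :
    C.evZ halg n (p + 1) hy ((C.dZ halg n p).app W x) = dd (C.ev halg n hy x) := by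
  refine Eq.trans ?_ (C.ev_d halg hy x)
  refine congrArg (C.ev halg n hy) ?_
  rw [← ConcreteCategory.comp_apply, ← Scheme.Modules.Hom.comp_app, dZ_ι]

/-- `0 → Zᵖ → Cᵖ → Zᵖ⁺¹ → 0`. -/
def shiftSC (p : ℕ) : ShortComplex X.Modules :=
  ShortComplex.mk (kernel.ι (C.d halg n p)) (C.dZ halg n p) (by
    rw [← cancel_mono (kernel.ι (C.d halg n (p + 1))), Category.assoc, dZ_ι, kernel.condition,
      zero_comp])

lemma shiftSC_shortExact (p : ℕ) [Epi (C.dZ halg n p)] : (C.shiftSC halg n p).ShortExact := by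
  let S' := ShortComplex.mk (kernel.ι (C.d halg n p)) (C.d halg n p) (kernel.condition _)
  let φ : C.shiftSC halg n p ⟶ S' :=
    { τ₁ := 𝟙 _, τ₂ := 𝟙 _, τ₃ := kernel.ι _
      comm₁₂ := by simp [S', shiftSC]
      comm₂₃ := by simp [S', shiftSC, dZ_ι] }
  have hex : (C.shiftSC halg n p).Exact := by
    haveI : Epi φ.τ₁ := inferInstanceAs (Epi (𝟙 _))
    haveI : IsIso φ.τ₂ := inferInstanceAs (IsIso (𝟙 _))
    haveI : Mono φ.τ₃ := inferInstanceAs (Mono (kernel.ι _))
    rw [ShortComplex.exact_iff_of_epi_of_isIso_of_mono φ]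
    exact ShortComplex.exact_of_f_is_kernel _ (kernelIsKernel _)
  exact ShortComplex.ShortExact.mk' hex (by dsimp [shiftSC]; infer_instance)
    (by dsimp [shiftSC]; infer_instance)

include halg in
theorem isNoetherianRing_sections [IsNoetherianRing A] {V : X.Opens} (hV : IsAffineOpen V) :
    IsNoetherianRing Γ(X, V) := by
  haveI := LocallyOfFiniteType.isLocallyNoetherian (X ↘ Spec (CommRingCat.of A))
  exact IsLocallyNoetherian.component_noetherian ⟨V, hV⟩

variable [IsNoetherianRing A]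

include halg in
/-- The complex is exact in a given range for large twists. -/
theorem exists_epi (Q : ℕ) : ∃ n₀ : ℤ, 0 ≤ n₀ ∧ ∀ n, n₀ ≤ n → ∀ p < Q, Epi (C.dZ halg n p) := by
  classical
  haveI : CompactSpace X :=
    QuasiCompact.compactSpace_of_compactSpace (X ↘ Spec (CommRingCat.of A))
  obtain ⟨T, hT⟩ := isCompact_univ.elim_finite_subcover
    (fun U : X.affineOpens => (U.1 : Set X)) (fun U => U.1.isOpen) (fun x _ => by
      obtain ⟨_, ⟨V, hV, rfl⟩, hxV, -⟩ :=
        X.isBasis_affineOpens.exists_subset_of_mem_open (Set.mem_univ x) isOpen_univ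
      exact Set.mem_iUnion.2 ⟨⟨V, hV⟩, hxV⟩)
  have key : ∀ (U : T) (p : Fin Q), ∃ n₀ : ℤ, ∀ n, n₀ ≤ n → ∀ hy : y ∈ U.1.1,
      letI := evalAlg U.1.1 hy
      MC Γ(X, U.1.1) C.t n (p + 1) ⊓ LinearMap.ker (ddl Γ(X, U.1.1) (p + 1)) ≤
        MB Γ(X, U.1.1) C.t n (p + 1) := by
    intro U p
    by_cases hy : y ∈ U.1.1
    · letI := evalAlg U.1.1 hy
      haveI := isNoetherianRing_sections halg U.1.2
      obtain ⟨n₀, h⟩ := image_vanish (B := Γ(X, U.1.1)) C.t (p := p + 1) (Nat.succ_pos _)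
      exact ⟨n₀, fun n hn _ => h n hn⟩
    · exact ⟨0, fun _ _ h => absurd h hy⟩
  choose f hf using key
  refine ⟨∑ U, ∑ p, |f U p|, Finset.sum_nonneg fun _ _ => Finset.sum_nonneg fun _ _ => abs_nonneg _,
    fun n hn p hp => ?_⟩
  have hcov : ⨆ U : T, U.1.1 = ⊤ := top_le_iff.mp fun x _ => by
    obtain ⟨U, hU, hxU⟩ := Set.mem_iUnion₂.1 (hT (Set.mem_univ x))
    exact Opens.mem_iSup.mpr ⟨⟨U, hU⟩, hxU⟩
  refine epi_of_app_surjective _ (fun U : T => U.1.1) hcov (fun U => U.1.2)
    (fun U => isLocAt_of_isQuasicoherent _ U.1.2) fun U z => ?_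
  by_cases hy : y ∈ U.1.1
  · letI := evalAlg U.1.1 hy
    have hle : f U ⟨p, hp⟩ ≤ n := by
      refine (le_abs_self _).trans (le_trans ?_ hn)
      refine (Finset.single_le_sum (f := fun q => |f U q|) (fun _ _ => abs_nonneg _)
        (Finset.mem_univ (⟨p, hp⟩ : Fin Q))).trans ?_
      exact Finset.single_le_sum (f := fun V => ∑ q, |f V q|)
        (fun _ _ => Finset.sum_nonneg fun _ _ => abs_nonneg _) (Finset.mem_univ U)
    obtain ⟨b, hb, hbz⟩ := hf U ⟨p, hp⟩ n hle hy
      ⟨(C.range_ev halg U.1.2 hy).le ⟨_, rfl⟩, C.dd_evZ halg n (p + 1) hy z⟩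
    obtain ⟨x, rfl⟩ := (C.range_ev halg U.1.2 hy).ge hb
    exact ⟨x, C.evZ_injective halg n (p + 1) hy ((C.evZ_dZ halg n p hy x).trans hbz)⟩
  · refine ⟨0, ?_⟩
    refine app_injective_of_mono (kernel.ι _) _ (biproduct_app_ext _ _ fun σ => ?_)
    have := C.subsingleton_Q halg σ hy
    exact Subsingleton.elim _ _

/-- Global cocycles as an `A`-linear map to cochains. -/
def evH (p : ℕ) : Coh.HH X (C.Zp halg n p) 0 →ₗ[A] ((Fin (p + 1) → C.Idx) → Kf y) where
  toFun x := C.evZ halg n p (W := ⊤) trivial (hzero _ x)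
  map_add' a b := by rw [map_add, map_add]
  map_smul' a x := by rw [hzero_smul, evZ_smul_top halg, RingHom.id_apply]

lemma evH_injective (p : ℕ) : Function.Injective (C.evH halg n p) :=
  (C.evZ_injective halg n p (W := ⊤) trivial).comp (hzero _).injective

lemma exists_fg_evH (p : ℕ) :
    ∃ G : Submodule A ((Fin (p + 1) → C.Idx) → Kf y), G.FG ∧
      ∀ x, C.evH halg n p x ∈ G ⊔ MB A C.t n p := by
  obtain ⟨G, hG, hle⟩ := image_fin (B := A) C.t n p
  exact ⟨G, hG, fun x => hle ⟨(C.range_ev_top halg).le ⟨_, rfl⟩, C.dd_evZ halg n p (W := ⊤) trivial _⟩⟩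

lemma finite_hh_zero : Module.Finite A (Coh.HH X (C.Zp halg n 0) 0) := by
  obtain ⟨G, hG, hx⟩ := C.exists_fg_evH halg n 0
  haveI := isNoetherian_of_fg_of_noetherian G hG
  refine Module.Finite.of_injective ((C.evH halg n 0).codRestrict G fun x => ?_) ?_
  · have h := hx x
    rwa [show MB A C.t n 0 = ⊥ from rfl, sup_bot_eq] at h
  · exact fun a b h => C.evH_injective halg n 0 (congrArg Subtype.val h)

lemma finite_hh_one (p : ℕ) [Epi (C.dZ halg n p)] :
    Module.Finite A (Coh.HH X (C.Zp halg n p) 1) := by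
  have hS := C.shiftSC_shortExact halg n p
  obtain ⟨G, hG, hx⟩ := C.exists_fg_evH halg n (p + 1)
  haveI := isNoetherian_of_fg_of_noetherian G hG
  let L := C.evH halg n (p + 1)
  let N : Submodule A (Coh.HH X (C.Zp halg n (p + 1)) 0) := G.comap L
  haveI : Module.Finite A N := Module.Finite.of_injective (L.restrict (p := N) (q := G) fun _ h => h)
    fun a b h => Subtype.ext (C.evH_injective halg n (p + 1) (congrArg Subtype.val h))
  refine Module.Finite.of_surjective ((hδ A hS 0).comp N.subtype) fun z => ?_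
  haveI := C.subsingleton_hh_Cp halg p 0
  obtain ⟨w, rfl⟩ := (exact_δ_f A hS 0 z).1 (Subsingleton.elim (α := Coh.HH X (C.Cp halg p) 1) _ _)
  obtain ⟨a, ha, b, ⟨c, hc, rfl⟩, hab⟩ := Submodule.mem_sup.1 (hx w)
  obtain ⟨x, rfl⟩ := (C.range_ev_top halg).ge hc
  let k : Coh.HH X (C.shiftSC halg n p).X₃ 0 :=
    hmap A (C.shiftSC halg n p).g 0 ((hzero (C.Cp halg p)).symm x)
  have hk : L k = dd (C.ev halg n (W := ⊤) trivial x) := by
    change C.evZ halg n (p + 1) (W := ⊤) trivial (hzero _ (hmap A (C.dZ halg n p) 0 _)) = _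
    rw [hzero_hmap, AddEquiv.apply_symm_apply]
    exact C.evZ_dZ halg n p (W := ⊤) trivial x
  refine ⟨⟨w - k, ?_⟩, ?_⟩
  · change L (w - k) ∈ G
    rw [show L (w - k) = L w - L k from map_sub L w k, hk]
    rw [show L w = C.evH halg n (p + 1) w from rfl, ← hab]
    rwa [show (ddl A p) (C.ev halg n (W := ⊤) trivial x) = dd (C.ev halg n (W := ⊤) trivial x) from rfl,
      add_sub_cancel_right]
  · change hδ A hS 0 (w - k) = _
    rw [map_sub, (exact_g_δ A hS 0).apply_apply_eq_zero, sub_zero]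

lemma finite_hh (Q : ℕ) (hepi : ∀ p < Q, Epi (C.dZ halg n p)) :
    ∀ k p, p + k + 1 ≤ Q → Module.Finite A (Coh.HH X (C.Zp halg n p) (k + 1))
  | 0, p, hp => have := hepi p (by omega); C.finite_hh_one halg n p
  | k + 1, p, hp => by
    haveI := hepi p (by omega)
    have hS := C.shiftSC_shortExact halg n p
    haveI : Module.Finite A (Coh.HH X (C.shiftSC halg n p).X₃ (k + 1)) :=
      finite_hh Q hepi k (p + 1) (by omega)
    haveI := C.subsingleton_hh_Cp halg p (k + 1)
    refine Module.Finite.of_surjective (hδ A hS (k + 1)) fun z => ?_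
    exact (exact_δ_f A hS (k + 1) z).1 (Subsingleton.elim (α := Coh.HH X (C.Cp halg p) (k + 1 + 1)) _ _)

theorem finQ (Q : ℕ) (hepi : ∀ p < Q, Epi (C.dZ halg n p)) : FinQ A Q (C.Zp halg n 0)
  | 0, _ => C.finite_hh_zero halg n
  | k + 1, hk => C.finite_hh halg n Q hepi k 0 (by omega)

/-- The kernel is coherent. -/
theorem isCoh_Zp : Coh.IsCoh (C.Zp halg n 0) := by
  refine ⟨inferInstance, isFiniteType_of_finite_sections _ (fun V : X.affineOpens => V.1)
    (iSup_affineOpens_eq_top X) (fun V => V.2) fun V => ?_⟩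
  by_cases hy : y ∈ V.1
  · letI := evalAlg V.1 hy
    haveI := isNoetherianRing_sections halg V.2
    obtain ⟨G, hG, hle⟩ := image_fin (B := Γ(X, V.1)) C.t n 0
    haveI := isNoetherian_of_fg_of_noetherian G hG
    let L : Γ(C.Zp halg n 0, V.1) →ₗ[Γ(X, V.1)] ((Fin 1 → C.Idx) → Kf y) :=
      { toFun := C.evZ halg n 0 hy
        map_add' := map_add _
        map_smul' := C.evZ_smul halg n 0 V.2 hy }
    refine Module.Finite.of_injective (L.codRestrict G fun z => ?_)
      fun a b h => C.evZ_injective halg n 0 hy (congrArg Subtype.val h)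
    have h := hle ⟨(C.range_ev halg V.2 hy).le ⟨_, rfl⟩, C.dd_evZ halg n 0 hy z⟩
    rwa [show MB Γ(X, V.1) C.t n 0 = ⊥ from rfl, sup_bot_eq] at h
  · haveI : Subsingleton Γ(C.Zp halg n 0, V.1) :=
      ⟨fun a b => app_injective_of_mono (kernel.ι _) _ (biproduct_app_ext _ _ fun σ => by
        have := C.subsingleton_Q halg σ hy
        exact Subsingleton.elim _ _)⟩
    infer_instance

/-- The kernel is killed by the ideal of the closure of `y`. -/
theorem killed {Y : Closeds X} (hY : y ∈ Y) (W : X.affineOpens) (a : Γ(X, W.1))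
    (ha : a ∈ (Scheme.IdealSheafData.vanishingIdeal Y).ideal W) (z : Γ(C.Zp halg n 0, W.1)) :
    a • z = 0 := by
  by_cases hy : y ∈ W.1
  · letI := evalAlg W.1 hy
    refine C.evZ_injective halg n 0 hy ?_
    rw [C.evZ_smul halg n 0 W.2 hy, map_zero]
    have h0 : X.evaluation W.1 y hy a = 0 := by
      rw [Scheme.evaluation_eq_zero_iff_notMem_basicOpen]
      intro hya
      have hs : y ∈ ((Scheme.IdealSheafData.vanishingIdeal Y).support : Set X) := by
        rw [Scheme.IdealSheafData.coe_support_vanishingIdeal]; exact hY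
      have h2 : y ∈ ((Scheme.IdealSheafData.vanishingIdeal Y).support : Set X) ∩ W.1 := ⟨hs, hy⟩
      rw [Scheme.IdealSheafData.coe_support_inter] at h2
      exact (X.mem_zeroLocus_iff _ _).1 h2.1 a ha hya
    funext σ
    rw [Pi.smul_apply, Algebra.smul_def, RingHom.algebraMap_toAlgebra, h0, zero_mul]
    rfl
  · exact app_injective_of_mono (kernel.ι _) _ (biproduct_app_ext _ _ fun σ => by
      have := C.subsingleton_Q halg σ hy
      exact Subsingleton.elim _ _)

/-- The kernel is nonzero at `y`. -/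
theorem nontrivial_stalk (hn : 0 ≤ n) : Nontrivial ((C.Zp halg n 0).presheaf.stalk y) := by
  classical
  let i₀ : C.Idx := fun l => 0
  let c : (Fin 1 → C.Idx) → Kf y := fun _ => (((C.t i₀) ^ n : (Kf y)ˣ) : Kf y)
  have hc : c ∈ MC A C.t n 0 := (mem_MC C.t).2 fun σ => by
    refine Submodule.subset_span ⟨Finsupp.single i₀ n, ⟨?_, fun i hi => ?_⟩, C.mono_cell i₀ n⟩
    · simp [deg, Finsupp.single_apply]
    · rw [Finsupp.single_apply] at hi
      split_ifs at hi <;> omega
  have hd : dd c = 0 := by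
    funext τ
    simp [dd, c, Fin.sum_univ_two]
  obtain ⟨z, hz⟩ := C.exists_evZ_eq halg n 0 (W := ⊤) trivial ((C.range_ev_top halg).ge hc) hd
  refine ⟨germM _ ⊤ y trivial z, 0, fun h => ?_⟩
  have hyt : y ∈ (⊤ : X.Opens) := trivial
  obtain ⟨V, hyV, i, i2, hV⟩ := TopCat.Presheaf.germ_eq (C.Zp halg n 0).presheaf y
    hyt hyt z 0 (by rw [map_zero]; exact h)
  have h2 := congrArg (C.evZ halg n 0 hyV) hV
  rw [map_zero, map_zero] at h2
  rw [show (C.Zp halg n 0).presheaf.map i.op z = res _ le_top z from rfl, evZ_res, hz] at h2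
  exact Units.ne_zero _ (congrFun h2 (fun _ => i₀))

end Charts

end Groth.Agent.Serre71
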