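import Groth.Agent.Crv77.HH
import Groth.Agent.Coh69.Sections
import Mathlib.RingTheory.Noetherian.Basic
import Mathlib.RingTheory.Finiteness.Basic
import Mathlib.CategoryTheory.Preadditive.Biproducts

/-! Finiteness of cohomology in short exact sequences; global sections. -/

universe u

noncomputable section

open CategoryTheory Limits AlgebraicGeometry Opposite TopologicalSpace

namespace Groth.Agent.Serre71

open Crv77

lemma finite_of_exact {R : Type*} [CommRing R] [IsNoetherianRing R] {M N P : Type*} [AddCommGroup M]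
    [Module R M] [AddCommGroup N] [Module R N] [AddCommGroup P] [Module R P] {f : M →ₗ[R] N}
    {g : N →ₗ[R] P} (h : Function.Exact f g) [Module.Finite R M] [Module.Finite R P] :
    Module.Finite R N :=
  have := isNoetherian_of_isNoetherianRing_of_finite R M
  have := isNoetherian_of_isNoetherianRing_of_finite R P
  have := isNoetherian_of_range_eq_ker f g (LinearMap.exact_iff.1 h).symm
  inferInstance

variable (A : Type u) [CommRing A] {X : Scheme.{u}} [X.Over (Spec (CommRingCat.of A))]

/-- Finite cohomology up to degree `Q`. -/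
def FinQ (Q : ℕ) (M : X.Modules) : Prop := ∀ q ≤ Q, Module.Finite A (Coh.HH X M q)

variable {A}

lemma FinQ.of_iso {Q : ℕ} {M N : X.Modules} (e : M ≅ N) (h : FinQ A Q M) : FinQ A Q N :=
  fun q hq => have := h q hq; Module.Finite.equiv (hEquiv A e q)

lemma hmap_add' {M N : X.Modules} (φ ψ : M ⟶ N) (n : ℕ) (x : Coh.HH X M n) :
    hmap A (φ + ψ) n x = hmap A φ n x + hmap A ψ n x := by
  change Sheaf.H.map ((toAbF X).map (φ + ψ)) n x =
    Sheaf.H.map ((toAbF X).map φ) n x + Sheaf.H.map ((toAbF X).map ψ) n x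
  rw [Functor.map_add]
  exact Sheaf.H.map_add_apply _ _ _

lemma hmap_zero' {M N : X.Modules} (n : ℕ) (x : Coh.HH X M n) :
    hmap A (0 : M ⟶ N) n x = 0 := by
  have h := hmap_add' (A := A) (0 : M ⟶ N) 0 n x
  rw [add_zero] at h
  exact left_eq_add.1 h

lemma hmap_sum' {M N : X.Modules} {κ : Type*} (s : Finset κ) (φ : κ → (M ⟶ N)) (n : ℕ)
    (x : Coh.HH X M n) : hmap A (∑ k ∈ s, φ k) n x = ∑ k ∈ s, hmap A (φ k) n x := by
  classical
  induction s using Finset.induction with
  | empty => rw [Finset.sum_empty, Finset.sum_empty, hmap_zero']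
  | insert a s ha ih => rw [Finset.sum_insert ha, Finset.sum_insert ha, hmap_add', ih]

lemma subsingleton_hh_of_isZero {M : X.Modules} (h : IsZero M) (n : ℕ) :
    Subsingleton (Coh.HH X M n) :=
  Sheaf.subsingleton_H_of_isZero ((toAbF X).map_isZero h) n

lemma FinQ.of_isZero {Q : ℕ} {M : X.Modules} (h : IsZero M) : FinQ A Q M :=
  fun q _ => have := subsingleton_hh_of_isZero h q; inferInstance

variable [IsNoetherianRing A]

lemma FinQ.ext {Q : ℕ} {S : ShortComplex X.Modules} (hS : S.ShortExact) (h₁ : FinQ A Q S.X₁)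
    (h₃ : FinQ A Q S.X₃) : FinQ A Q S.X₂ :=
  fun q hq => have := h₁ q hq; have := h₃ q hq; finite_of_exact (exact_f_g A hS q)

lemma FinQ.sub {Q : ℕ} {S : ShortComplex X.Modules} (hS : S.ShortExact) (h₂ : FinQ A Q S.X₂)
    (h₃ : FinQ A Q S.X₃) : FinQ A Q S.X₁ := by
  intro q hq
  have := h₂ q hq
  cases q with
  | zero => exact Module.Finite.of_injective _ (injective_f_zero A hS)
  | succ q => have := h₃ q (by omega); exact finite_of_exact (exact_δ_f A hS q)

omit [IsNoetherianRing A] in
lemma FinQ.of_retract {Q : ℕ} {M N : X.Modules} (i : M ⟶ N) (r : N ⟶ M) (h : i ≫ r = 𝟙 M)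
    (hN : FinQ A Q N) : FinQ A Q M := fun q hq =>
  have := hN q hq
  Module.Finite.of_surjective (hmap A r q) fun x => ⟨hmap A i q x, by
    rw [hmap_comp, h, hmap_id]⟩

omit [IsNoetherianRing A] in
include A in
lemma subsingleton_hh_biproduct {κ : Type} [Finite κ] (M : κ → X.Modules) [HasBiproduct M] (n : ℕ)
    (h : ∀ k, Subsingleton (Coh.HH X (M k) n)) : Subsingleton (Coh.HH X (⨁ M) n) := by
  cases nonempty_fintype κ
  refine subsingleton_of_forall_eq 0 fun x => ?_
  rw [← hmap_id A (⨁ M) n x, ← biproduct.total, hmap_sum']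
  refine Finset.sum_eq_zero fun k _ => ?_
  have := h k
  rw [← hmap_comp, Subsingleton.elim (hmap A (biproduct.π M k) n x) 0, map_zero]

section Global

variable (X A) in
/-- The scalars as global functions. -/
def globalA : A →+* Γ(X, ⊤) :=
  (X ↘ Spec (CommRingCat.of A)).appTop.hom.comp (Scheme.ΓSpecIso (CommRingCat.of A)).inv.hom

/-- `H^0` is global sections. -/
def hzero (M : X.Modules) : Coh.HH X M 0 ≃+ Γ(M, ⊤) :=
  Sheaf.H.equiv₀ (Coh.toAb M) (isTerminalTop (α := X.Opens))

omit [IsNoetherianRing A] in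
lemma hzero_hmap {M N : X.Modules} (φ : M ⟶ N) (x : Coh.HH X M 0) :
    hzero N (hmap A φ 0 x) = φ.app ⊤ (hzero M x) :=
  (Sheaf.H.equiv₀_naturality (isTerminalTop (α := X.Opens)) ((toAbF X).map φ) x).symm

omit [IsNoetherianRing A] in
lemma hzero_smul (M : X.Modules) (a : A) (x : Coh.HH X M 0) :
    hzero M (a • x) = globalA A X a • hzero M x := by
  refine (Sheaf.H.equiv₀_naturality (isTerminalTop (α := X.Opens))
    (Coh.smulAb M (Coh.toGlobal (X ↘ Spec (CommRingCat.of A)) a)) x).symm.trans ?_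
  rw [Coh.smulAb_app]
  congr 1
  change X.ringCatSheaf.obj.map _ _ = _
  rw [show (homOfLE (le_top : (⊤ : X.Opens) ≤ ⊤)).op = 𝟙 _ from rfl, CategoryTheory.Functor.map_id]
  rfl

end Global

end Groth.Agent.Serre71
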