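import Groth.Agent.Serre71.Model
import Groth.Agent.Serre71.HHLin
import Groth.Agent.Coh69.AffinePush
import Groth.Agent.CechComp71.Scheme

/-! The model complex. -/

set_option linter.unusedSectionVars false
set_option linter.style.haveILetI false
set_option maxSynthPendingDepth 6
set_option backward.isDefEq.respectTransparency.types false

universe u

noncomputable section

open CategoryTheory Limits AlgebraicGeometry TopologicalSpace Opposite

namespace Groth.Agent.Serre71

open Pn71 QC70

variable {X : Scheme.{u}}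

lemma app_finset_sum {M N : X.Modules} {κ : Type*} (s : Finset κ) (φ : κ → (M ⟶ N)) (U : X.Opens)
    (x : Γ(M, U)) : (∑ k ∈ s, φ k).app U x = ∑ k ∈ s, (φ k).app U x := by
  classical
  induction s using Finset.induction with
  | empty => rw [Finset.sum_empty, Finset.sum_empty, Scheme.Modules.Hom.zero_app]; rfl
  | insert a s ha ih =>
    rw [Finset.sum_insert ha, Finset.sum_insert ha, Scheme.Modules.Hom.add_app, ← ih]
    rfl

lemma app_zsmul {M N : X.Modules} (m : ℤ) (φ : M ⟶ N) (U : X.Opens) (x : Γ(M, U)) :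
    (m • φ).app U x = m • φ.app U x := by
  have h : (m • φ).app U = m • φ.app U := (sectionsFunctor X U).map_zsmul
  rw [h]
  rfl

lemma biproduct_app_ext {κ : Type} [Fintype κ] (M : κ → X.Modules) (U : X.Opens)
    {x x' : Γ(⨁ M, U)} (h : ∀ k, (biproduct.π M k).app U x = (biproduct.π M k).app U x') :
    x = x' := by
  have h0 : ∀ z : Γ(⨁ M, U),
      z = ∑ k, (biproduct.ι M k).app U ((biproduct.π M k).app U z) := by
    intro z
    have h1 := app_finset_sum Finset.univ (fun k => biproduct.π M k ≫ biproduct.ι M k) U z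
    rw [biproduct.total] at h1
    exact h1
  rw [h0 x, h0 x']
  simp only [h]

variable {A : Type u} [CommRing A] [X.Over (Spec (CommRingCat.of A))] {y : X} [Algebra A (Kf y)]
  (halg : Spec.map (CommRingCat.ofHom (algebraMap A (Kf y))) =
    X.fromSpecResidueField y ≫ X ↘ Spec (CommRingCat.of A))

namespace Charts

variable (C : Charts A y) [IsProper (X ↘ Spec (CommRingCat.of A))] (n : ℤ)

lemma exists_r {p q : ℕ} {σ : Fin (p + 1) → C.Idx} {τ : Fin (q + 1) → C.Idx}
    (h : Set.range σ ⊆ Set.range τ) :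
    ∃ r : C.Q halg σ ⟶ C.Q halg τ, r ≫ C.j halg n τ = C.j halg n σ := by
  refine exists_lift_of_mono (C.j halg n σ) (C.j halg n τ) (fun V : X.affineOpens => V.1)
    (iSup_affineOpens_eq_top X) (fun V => V.2)
    (fun V => isLocAt_of_isQuasicoherent _ V.2) fun V x => ?_
  by_cases hy : y ∈ V.1
  · letI := evalAlg V.1 hy
    have h1 := Mmod_mono C.t (B := Γ(X, V.1)) n h
      ((C.range_j halg n σ V.2 hy).le ⟨x, rfl⟩)
    obtain ⟨c, hc⟩ := (C.range_j halg n τ V.2 hy).ge h1
    exact ⟨c, val_injective hy hc⟩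
  · have := subsingleton_P (y := y) hy
    exact ⟨0, Subsingleton.elim _ _⟩

/-- The face maps. -/
def r {p q : ℕ} {σ : Fin (p + 1) → C.Idx} {τ : Fin (q + 1) → C.Idx}
    (h : Set.range σ ⊆ Set.range τ) : C.Q halg σ ⟶ C.Q halg τ :=
  (C.exists_r halg n h).choose

lemma r_j {p q : ℕ} {σ : Fin (p + 1) → C.Idx} {τ : Fin (q + 1) → C.Idx}
    (h : Set.range σ ⊆ Set.range τ) : C.r halg n h ≫ C.j halg n τ = C.j halg n σ :=
  (C.exists_r halg n h).choose_spec

/-- The terms of the complex. -/
abbrev Cp (p : ℕ) : X.Modules := ⨁ fun σ : Fin (p + 1) → C.Idx => C.Q halg σ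

/-- The coordinates of the complex in the skyscraper. -/
def v (p : ℕ) (σ : Fin (p + 1) → C.Idx) : C.Cp halg p ⟶ P y :=
  biproduct.π _ σ ≫ C.j halg n σ

/-- The differential. -/
def d (p : ℕ) : C.Cp halg p ⟶ C.Cp halg (p + 1) :=
  biproduct.lift fun τ => ∑ i : Fin (p + 2), ((-1 : ℤ) ^ (i : ℕ)) •
    (biproduct.π _ (τ ∘ i.succAbove) ≫
      C.r halg n (Set.range_comp_subset_range i.succAbove τ))

lemma d_v (p : ℕ) (τ : Fin (p + 2) → C.Idx) :
    C.d halg n p ≫ C.v halg n (p + 1) τ = dd (C.v halg n p) τ := by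
  rw [v, d, biproduct.lift_π_assoc, Preadditive.sum_comp]
  refine Finset.sum_congr rfl fun i _ => ?_
  rw [Preadditive.zsmul_comp, Category.assoc, r_j, v]

lemma d_d (p : ℕ) : C.d halg n p ≫ C.d halg n (p + 1) = 0 := by
  refine biproduct.hom_ext _ _ fun ρ => ?_
  rw [← cancel_mono (C.j halg n ρ), zero_comp, zero_comp, Category.assoc, Category.assoc]
  change C.d halg n p ≫ C.d halg n (p + 1) ≫ C.v halg n (p + 2) ρ = 0
  rw [d_v]
  refine (map_dd (Preadditive.leftComp (P y) (C.d halg n p)) _ ρ).trans ?_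
  have h : (fun σ => Preadditive.leftComp (P y) (C.d halg n p) (C.v halg n (p + 1) σ)) =
      dd (C.v halg n p) := funext fun σ => C.d_v halg n p σ
  rw [h]
  exact congrFun (dd_dd (C.v halg n p)) ρ

variable {n}

/-- Values of a section of the complex. -/
def ev (n : ℤ) {p : ℕ} {W : X.Opens} (hy : y ∈ W) :
    Γ(C.Cp halg p, W) →+ ((Fin (p + 1) → C.Idx) → Kf y) :=
  AddMonoidHom.mk' (fun x σ => val hy ((C.v halg n p σ).app W x)) fun a b => by
    funext σ
    simp only [map_add, Pi.add_apply]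

lemma ev_apply {p : ℕ} {W : X.Opens} (hy : y ∈ W) (x : Γ(C.Cp halg p, W))
    (σ : Fin (p + 1) → C.Idx) :
    C.ev halg n hy x σ = val hy ((C.j halg n σ).app W
      ((biproduct.π (fun σ : Fin (p + 1) → C.Idx => C.Q halg σ) σ).app W x)) := rfl

lemma ev_injective {p : ℕ} {W : X.Opens} (hy : y ∈ W) :
    Function.Injective (C.ev halg n (p := p) hy) := fun a b h =>
  biproduct_app_ext _ W fun σ =>
    app_injective_of_mono (C.j halg n σ) W (val_injective hy (congrFun h σ))

lemma ev_d {p : ℕ} {W : X.Opens} (hy : y ∈ W) (x : Γ(C.Cp halg p, W)) :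
    C.ev halg n hy ((C.d halg n p).app W x) = dd (C.ev halg n hy x) := by
  funext τ
  change val hy ((C.v halg n (p + 1) τ).app W ((C.d halg n p).app W x)) = _
  rw [← ConcreteCategory.comp_apply, ← Scheme.Modules.Hom.comp_app, d_v]
  simp only [dd, app_finset_sum, app_zsmul, map_sum, map_zsmul]
  rfl

lemma ev_res {p : ℕ} {W W' : X.Opens} (h : W' ≤ W) (hy : y ∈ W') (x : Γ(C.Cp halg p, W)) :
    C.ev halg n hy (res _ h x) = C.ev halg n (h hy) x := by
  funext σ
  change val hy ((C.v halg n p σ).app W' (res _ h x)) = val (h hy) _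
  rw [app_res, val_res]

lemma ev_smul {p : ℕ} {V : X.Opens} (hV : IsAffineOpen V) (hy : y ∈ V) (a : Γ(X, V))
    (x : Γ(C.Cp halg p, V)) : letI := evalAlg V hy;
      C.ev halg n hy (a • x) = a • C.ev halg n hy x := by
  letI := evalAlg V hy
  funext σ
  change val hy ((C.v halg n p σ).app V (a • x)) = _
  rw [Scheme.Modules.Hom.app_smul, val_smul hV hy]
  rfl

include halg in
lemma ev_smul_top {p : ℕ} (a : A) (x : Γ(C.Cp halg p, ⊤)) :
    C.ev halg n (W := ⊤) trivial (globalA A X a • x) = a • C.ev halg n (W := ⊤) trivial x := by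
  funext σ
  change val (W := ⊤) trivial ((C.v halg n p σ).app ⊤ (globalA A X a • x)) = _
  rw [Scheme.Modules.Hom.app_smul]
  refine (val_smul_top halg a _).trans ?_
  rw [Pi.smul_apply, Algebra.smul_def]
  rfl

lemma exists_ev_eq {p : ℕ} {W : X.Opens} (hy : y ∈ W) (c : (Fin (p + 1) → C.Idx) → Kf y)
    (s : ∀ σ, Γ(C.Q halg σ, W)) (hs : ∀ σ, val hy ((C.j halg n σ).app W (s σ)) = c σ) :
    ∃ x, C.ev halg n hy x = c := by
  classical
  refine ⟨∑ τ, (biproduct.ι (fun σ : Fin (p + 1) → C.Idx => C.Q halg σ) τ).app W (s τ),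
    funext fun σ => ?_⟩
  rw [ev_apply, map_sum, Finset.sum_eq_single σ]
  · refine Eq.trans (congrArg (fun z => val hy ((C.j halg n σ).app W z)) ?_) (hs σ)
    refine (ConcreteCategory.comp_apply _ _ _).symm.trans ?_
    rw [← Scheme.Modules.Hom.comp_app, biproduct.ι_π_self, Scheme.Modules.Hom.id_app]
    rfl
  · intro τ _ hτ
    refine (ConcreteCategory.comp_apply _ _ _).symm.trans ?_
    rw [← Scheme.Modules.Hom.comp_app, biproduct.ι_π_ne _ hτ, Scheme.Modules.Hom.zero_app]
    rfl
  · simp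

include halg in
/-- Global sections of the complex are the image complex over the base. -/
theorem range_ev_top {p : ℕ} :
    Set.range (C.ev halg n (p := p) (W := ⊤) trivial) = (MC A C.t n p : Set _) := by
  ext c
  rw [SetLike.mem_coe, mem_MC]
  constructor
  · rintro ⟨x, rfl⟩ σ
    exact (C.range_j_top halg n σ).le ⟨_, rfl⟩
  · intro hc
    choose s hs using fun σ => (C.range_j_top halg n σ).ge (hc σ)
    exact C.exists_ev_eq halg (W := ⊤) trivial c s hs

/-- Sections of the complex on an affine open are the image complex. -/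
theorem range_ev {p : ℕ} {V : X.Opens} (hV : IsAffineOpen V) (hy : y ∈ V) :
    letI := evalAlg V hy
    Set.range (C.ev halg n (p := p) hy) = (MC Γ(X, V) C.t n p : Set _) := by
  letI := evalAlg V hy
  ext c
  rw [SetLike.mem_coe, mem_MC]
  constructor
  · rintro ⟨x, rfl⟩ σ
    exact (C.range_j halg n σ hV hy).le ⟨_, rfl⟩
  · intro hc
    choose s hs using fun σ => (C.range_j halg n σ hV hy).ge (hc σ)
    exact C.exists_ev_eq halg hy c s hs

end Charts

end Groth.Agent.Serre71
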