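import Groth.Agent.Serre71.Cohom
import Groth.Agent.QC70.Devissage

/-! Finiteness of coherent cohomology of proper schemes over Noetherian rings. -/

set_option linter.unusedSectionVars false
set_option linter.style.haveILetI false
set_option maxSynthPendingDepth 6

universe u

noncomputable section

open CategoryTheory Limits AlgebraicGeometry TopologicalSpace Opposite

namespace Groth.Agent.Serre71

open QC70

variable (A : Type u) [CommRing A] [IsNoetherianRing A] {X : Scheme.{u}}
  [X.Over (Spec (CommRingCat.of A))] [IsProper (X ↘ Spec (CommRingCat.of A))]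

theorem finQ_of_isCoh (Q : ℕ) (M : X.Modules) (hM : Coh.IsCoh M) : FinQ A Q M := by
  haveI : IsLocallyNoetherian X :=
    LocallyOfFiniteType.isLocallyNoetherian (X ↘ Spec (CommRingCat.of A))
  haveI : CompactSpace X :=
    QuasiCompact.compactSpace_of_compactSpace (X ↘ Spec (CommRingCat.of A))
  haveI : IsNoetherian X := { }
  refine devissage (FinQ A Q) (fun _ _ ⟨e⟩ h => h.of_iso e) (fun _ h => FinQ.of_isZero h)
    (fun S hS _ _ _ h₁ h₃ => FinQ.ext hS h₁ h₃) (fun F r _ hr h => ?_) Set.univ isClosed_univ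
    (fun y _ IH => ?_) M hM (Set.subset_univ _)
  · exact FinQ.of_retract (Sigma.ι (fun _ : Fin r => F) ⟨0, hr⟩) (Sigma.desc fun _ => 𝟙 F)
      (Sigma.ι_desc _ _) h
  let φ : CommRingCat.of A ⟶ X.residueField y :=
    Spec.preimage (X.fromSpecResidueField y ≫ X ↘ Spec (CommRingCat.of A))
  letI : Algebra A (Kf y) := φ.hom.toAlgebra
  have halg : Spec.map (CommRingCat.ofHom (algebraMap A (Kf y))) =
      X.fromSpecResidueField y ≫ X ↘ Spec (CommRingCat.of A) := Spec.map_preimage _
  obtain ⟨C⟩ := nonempty_charts halg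
  obtain ⟨n, hn, hepi⟩ := C.exists_epi halg Q
  let Y : Closeds X := ⟨closure {y}, isClosed_closure⟩
  have hyY : y ∈ Y := subset_closure rfl
  have hG := C.isCoh_Zp halg n
  have hk := C.killed halg n hyY
  haveI := hG.1
  refine ⟨C.Zp halg n 0, hG, C.nontrivial_stalk halg n hn, stalk_killed (Y := Y) rfl hk,
    fun J hyJ => ?_⟩
  refine ⟨(Dual3.idealMul J).obj (C.Zp halg n 0), 𝟙 _, inferInstance, isCoh_idealMul J hG, ?_, ?_⟩
  · rw [Category.id_comp]
    exact bijective_stalk_idealMulι J _ hyJ
  · refine FinQ.sub (quotSC_shortExact J (C.Zp halg n 0)) (C.finQ halg n Q (hepi n le_rfl))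
      (IH _ (isCoh_quot J hG) ?_ fun h => hyJ (support_quot_subset_right J _ h))
    refine (support_quot_subset_left J _).trans ?_
    refine (support_subset_of_killed (Scheme.IdealSheafData.vanishingIdeal Y) (n := 1)
      fun W a ha t => hk W a (by rwa [pow_one] at ha) t).trans ?_
    rw [Scheme.IdealSheafData.coe_support_vanishingIdeal]
    rfl

theorem finite_hh_of_isProper (M : X.Modules) (hM : Coh.IsCoh M) (n : ℕ) :
    Module.Finite A (Coh.HH X M n) :=
  finQ_of_isCoh A n M hM n le_rfl

end Groth.Agent.Serre71
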