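import Groth.Agent.Serre71.Finite
import Groth.Prelude.Def_CohB1
import Mathlib.AlgebraicGeometry.ProjectiveSpectrum.Proper
import Mathlib.RingTheory.MvPolynomial.Homogeneous

/-! Projective space over a ring is proper. -/

universe u

open CategoryTheory AlgebraicGeometry

namespace Groth.Agent.Serre71

set_option backward.isDefEq.respectTransparency false in
theorem isProper_projSpace (n : ℕ) (R : Type u) [CommRing R] :
    IsProper (CohB1.ProjSpace.toSpec n R) := by
  classical
  let 𝒜 := CohB1.polyGrading n R
  have hsurj : Function.Surjective (algebraMap R (𝒜 0)) := fun p => by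
    have h := p.2
    simp only [𝒜, CohB1.polyGrading, MvPolynomial.mem_homogeneousSubmodule] at h
    refine ⟨MvPolynomial.coeff 0 p.1, Subtype.ext ?_⟩
    rw [SetLike.GradeZero.coe_algebraMap, MvPolynomial.algebraMap_eq,
      ← MvPolynomial.homogeneousComponent_zero, MvPolynomial.homogeneousComponent_of_mem h, if_pos rfl]
  have : IsScalarTower R (𝒜 0) (MvPolynomial (Fin (n + 1)) R) :=
    IsScalarTower.of_algebraMap_eq (R := R) (S := 𝒜 0) (A := MvPolynomial (Fin (n + 1)) R) fun r => rfl
  have : Algebra.FiniteType (𝒜 0) (MvPolynomial (Fin (n + 1)) R) :=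
    Algebra.FiniteType.of_restrictScalars_finiteType R (𝒜 0) _
  have : IsClosedImmersion (Spec.map (CommRingCat.ofHom (algebraMap R (𝒜 0)))) :=
    IsClosedImmersion.spec_of_surjective _ hsurj
  exact MorphismProperty.comp_mem _ _ _ (inferInstance : IsProper (Proj.toSpecZero 𝒜)) inferInstance

end Groth.Agent.Serre71
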