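import Groth.Agent.Serre71.Image
import Mathlib.AlgebraicGeometry.ResidueField
import Mathlib.AlgebraicGeometry.Morphisms.FiniteType
import Mathlib.AlgebraicGeometry.Morphisms.Proper
import Mathlib.AlgebraicGeometry.ValuativeCriterion
import Mathlib.RingTheory.Valuation.LocalSubring

/-! A projective model inside the residue field of a point, in the spirit of Chow's lemma. -/

set_option linter.unusedSectionVars false
set_option maxSynthPendingDepth 6

universe u

set_option linter.style.haveILetI false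

noncomputable section

open CategoryTheory Limits AlgebraicGeometry TopologicalSpace Opposite

namespace Groth.Agent.Serre71

open Pn71

/-- A morphism from a spectrum into an affine open is induced by a ring map. -/
lemma exists_hom_of_range_subset {X : Scheme.{u}} {U : X.Opens} (hU : IsAffineOpen U)
    {R : CommRingCat.{u}} (l : Spec R ⟶ X) (hl : Set.range l ⊆ (U : Set X)) :
    ∃ ψ : Γ(X, U) ⟶ R, Spec.map ψ ≫ hU.fromSpec = l :=
  ⟨Spec.preimage (IsOpenImmersion.lift hU.fromSpec l (by rwa [hU.range_fromSpec])), by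
    rw [Spec.map_preimage, IsOpenImmersion.lift_fac]⟩

lemma hom_ext_of_fromSpec {X : Scheme.{u}} {U : X.Opens} (hU : IsAffineOpen U)
    {R : CommRingCat.{u}} {ψ ψ' : Γ(X, U) ⟶ R}
    (h : Spec.map ψ ≫ hU.fromSpec = Spec.map ψ' ≫ hU.fromSpec) : ψ = ψ' :=
  Spec.map_injective ((cancel_mono hU.fromSpec).1 h)

lemma map_evaluation_fromSpec {X : Scheme.{u}} {U : X.Opens} (hU : IsAffineOpen U) (y : X)
    (hy : y ∈ U) : Spec.map (X.evaluation U y hy) ≫ hU.fromSpec = X.fromSpecResidueField y := by
  rw [Scheme.fromSpecResidueField, ← hU.fromSpecStalk_eq_fromSpecStalk hy,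
    IsAffineOpen.fromSpecStalk, ← Category.assoc, ← Spec.map_comp]
  rfl

variable {X : Scheme.{u}}

/-- The residue field. -/
abbrev Kf (y : X) : Type u := X.residueField y

/-- An affine chart through a point, with algebra generators nonzero at it. -/
structure Charts (A : Type u) [CommRing A] [X.Over (Spec (CommRingCat.of A))] (y : X)
    [Algebra A (Kf y)] where
  /-- number of charts -/
  s : ℕ
  /-- the charts -/
  U : Fin s → X.Opens
  affine : ∀ l, IsAffineOpen (U l)
  mem : ∀ l, y ∈ U l
  cover : ∀ z, y ⤳ z → ∃ l, z ∈ U l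
  /-- number of coordinates -/
  k : Fin s → ℕ
  /-- the coordinates -/
  a : ∀ l, Fin (k l + 1) → (Kf y)ˣ
  a_zero : ∀ l, a l 0 = 1
  a_mem : ∀ l j, (a l j : Kf y) ∈ (X.evaluation (U l) y (mem l)).hom.range
  gen : ∀ l (g : Γ(X, U l)), X.evaluation (U l) y (mem l) g ∈
    Algebra.adjoin A (Set.range fun j => (a l j : Kf y))

variable {A : Type u} [CommRing A] [X.Over (Spec (CommRingCat.of A))] {y : X}
  [Algebra A (Kf y)]
  (halg : Spec.map (CommRingCat.ofHom (algebraMap A (Kf y))) =
    X.fromSpecResidueField y ≫ X ↘ Spec (CommRingCat.of A))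

include halg in
lemma exists_structureMap {U : X.Opens} (hU : IsAffineOpen U) (hy : y ∈ U) :
    ∃ φ : CommRingCat.of A ⟶ Γ(X, U), hU.fromSpec ≫ X ↘ Spec (CommRingCat.of A) = Spec.map φ ∧
      (X.evaluation U y hy).hom.comp φ.hom = algebraMap A (Kf y) := by
  refine ⟨Spec.preimage (hU.fromSpec ≫ X ↘ Spec (CommRingCat.of A)), (Spec.map_preimage _).symm, ?_⟩
  rw [← map_evaluation_fromSpec hU y hy, Category.assoc,
    ← Spec.map_preimage (hU.fromSpec ≫ X ↘ Spec (CommRingCat.of A)), ← Spec.map_comp] at halg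
  exact congrArg CommRingCat.Hom.hom (Spec.map_injective halg).symm

include halg in
theorem nonempty_charts [IsProper (X ↘ Spec (CommRingCat.of A))] : Nonempty (Charts A y) := by
  classical
  haveI : CompactSpace X :=
    QuasiCompact.compactSpace_of_compactSpace (X ↘ Spec (CommRingCat.of A))
  obtain ⟨T, hT⟩ := isCompact_univ.elim_finite_subcover
    (fun U : X.affineOpens => (U.1 : Set X)) (fun U => U.1.isOpen) (fun x _ => by
      obtain ⟨_, ⟨V, hV, rfl⟩, hxV, -⟩ :=
        X.isBasis_affineOpens.exists_subset_of_mem_open (Set.mem_univ x) isOpen_univ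
      exact Set.mem_iUnion.2 ⟨⟨V, hV⟩, hxV⟩)
  let T' := T.filter fun U => y ∈ U.1
  let e : Fin T'.card ≃ {U // U ∈ T'} := T'.equivFin.symm
  have hmem : ∀ l, y ∈ (e l).1.1 := fun l => (Finset.mem_filter.1 (e l).2).2
  have hgen : ∀ l, ∃ S : Finset (Kf y), (∀ x ∈ S, x ≠ 0 ∧
      x ∈ (X.evaluation (e l).1.1 y (hmem l)).hom.range) ∧
      ∀ g, X.evaluation (e l).1.1 y (hmem l) g ∈ Algebra.adjoin A (S : Set (Kf y)) := by
    intro l
    obtain ⟨φ, hφ, hev⟩ := exists_structureMap halg (e l).1.2 (hmem l)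
    have hft : φ.hom.FiniteType := by
      have h : LocallyOfFiniteType (Spec.map φ) := by
        rw [← hφ]
        have := IsAffineOpen.isOpenImmersion_fromSpec (e l).1.2
        exact MorphismProperty.comp_mem _ _ _ (locallyOfFiniteType_of_isOpenImmersion _) inferInstance
      exact (HasRingHomProperty.Spec_iff (P := @LocallyOfFiniteType)).1 h
    letI := φ.hom.toAlgebra
    obtain ⟨S, hS⟩ := hft
    let f : Γ(X, (e l).1.1) →ₐ[A] Kf y :=
      { (X.evaluation (e l).1.1 y (hmem l)).hom with
        commutes' := fun a => RingHom.congr_fun hev a }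
    refine ⟨(S.image f).erase 0, fun x hx => ?_, fun g => ?_⟩
    · obtain ⟨hx0, hx⟩ := Finset.mem_erase.1 hx
      obtain ⟨z, -, rfl⟩ := Finset.mem_image.1 hx
      exact ⟨hx0, z, rfl⟩
    · have h1 : f g ∈ (Algebra.adjoin A (S : Set Γ(X, (e l).1.1))).map f :=
        ⟨g, by rw [hS]; trivial, rfl⟩
      rw [AlgHom.map_adjoin] at h1
      refine Algebra.adjoin_le ?_ h1
      rintro _ ⟨z, hz, rfl⟩
      rcases eq_or_ne (f z) 0 with h | h
      · rw [h]; exact zero_mem _
      · exact Algebra.subset_adjoin (Finset.mem_erase.2 ⟨h, Finset.mem_image_of_mem f hz⟩)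
  choose S hS hS' using hgen
  refine ⟨{
    s := T'.card
    U := fun l => (e l).1.1
    affine := fun l => (e l).1.2
    mem := hmem
    cover := fun z hz => ?_
    k := fun l => (S l).card
    a := fun l => Fin.cons 1 fun j => Units.mk0 ((S l).equivFin.symm j).1
      (hS l _ ((S l).equivFin.symm j).2).1
    a_zero := fun l => rfl
    a_mem := fun l j => ?_
    gen := fun l g => Algebra.adjoin_mono ?_ (hS' l g) }⟩
  · obtain ⟨U, hU, hzU⟩ := Set.mem_iUnion₂.1 (hT (Set.mem_univ z))
    have hU' : U ∈ T' := Finset.mem_filter.2 ⟨hU, hz.mem_open U.1.isOpen hzU⟩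
    exact ⟨e.symm ⟨U, hU'⟩, by simpa using hzU⟩
  · cases j using Fin.cases with
    | zero => exact one_mem _
    | succ j => exact (hS l _ ((S l).equivFin.symm j).2).2
  · intro x hx
    exact ⟨((S l).equivFin ⟨x, hx⟩).succ, by simp⟩

namespace Charts

variable (C : Charts A y)

/-- Multi-indices. -/
abbrev Idx : Type := ∀ l, Fin (C.k l + 1)

/-- The coordinates of the model. -/
def t (i : C.Idx) : (Kf y)ˣ := ∏ l, C.a l (i l)

/-- The coordinate algebra of a standard open of the model. -/
def Bs {p : ℕ} (σ : Fin (p + 1) → C.Idx) : Subalgebra A (Kf y) where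
  toSubsemiring :=
    { carrier := Mmod A C.t 0 σ
      mul_mem' := fun {x z} hx hz => by
        refine Submodule.span_induction₂ (p := fun x z _ _ => x * z ∈ Mmod A C.t 0 σ)
          ?_ ?_ ?_ ?_ ?_ ?_ ?_ hx hz
        · rintro _ _ ⟨a, ha, rfl⟩ ⟨b, hb, rfl⟩
          refine Submodule.subset_span ⟨a + b, ⟨?_, fun i hi => ?_⟩, mono_add _ a b⟩
          · rw [deg_add, ha.1, hb.1, add_zero]
          · rw [Finsupp.add_apply] at hi
            rcases lt_or_ge (a i) 0 with h | h
            · exact ha.2 i h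
            · exact hb.2 i (by omega)
        · intro y' _; simp
        · intro x' _; simp
        · intro a b c _ _ _ h h'; rw [add_mul]; exact add_mem h h'
        · intro a b c _ _ _ h h'; rw [mul_add]; exact add_mem h h'
        · intro r a b _ _ h; rw [smul_mul_assoc]; exact Submodule.smul_mem _ r h
        · intro r a b _ _ h; rw [mul_smul_comm]; exact Submodule.smul_mem _ r h
      one_mem' := Submodule.subset_span ⟨0, ⟨by simp [deg], fun i hi => by simp at hi⟩, mono_zero _⟩
      add_mem' := fun h h' => add_mem h h'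
      zero_mem' := zero_mem _ }
  algebraMap_mem' r := by
    rw [Algebra.algebraMap_eq_smul_one]
    exact Submodule.smul_mem (Mmod A C.t 0 σ) r (Submodule.subset_span
      ⟨0, ⟨by simp [deg], fun i hi => by simp at hi⟩, mono_zero _⟩)

lemma mem_Bs {p : ℕ} (σ : Fin (p + 1) → C.Idx) {x : Kf y} :
    x ∈ C.Bs σ ↔ x ∈ Mmod A C.t 0 σ := Iff.rfl

lemma Bs_mono {p q : ℕ} {σ : Fin (p + 1) → C.Idx} {τ : Fin (q + 1) → C.Idx}
    (h : Set.range σ ⊆ Set.range τ) : C.Bs σ ≤ C.Bs τ :=
  fun _ hx => Mmod_mono C.t 0 h hx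

lemma mono_single (i : C.Idx) : mono C.t (Finsupp.single i 1) = (C.t i : Kf y) := by
  classical
  rw [mono, Finset.prod_eq_single i (fun j _ hj => by simp [hj]) (by simp)]
  simp

lemma mono_neg (a : C.Idx →₀ ℤ) : mono C.t (-a) = (mono C.t a)⁻¹ := by
  refine eq_inv_of_mul_eq_one_left ?_
  rw [← mono_add, neg_add_cancel, mono_zero]

lemma div_mem {p : ℕ} {σ : Fin (p + 1) → C.Idx} (i : C.Idx) {j : C.Idx} (hj : j ∈ Set.range σ) :
    (C.t i : Kf y) / (C.t j : Kf y) ∈ C.Bs σ := by
  classical
  refine Submodule.subset_span ⟨Finsupp.single i 1 + -Finsupp.single j 1, ⟨?_, fun x hx => ?_⟩, ?_⟩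
  · rw [deg_add]
    simp only [deg, Finsupp.neg_apply, Finset.sum_neg_distrib, Finsupp.single_apply]
    simp
  · simp only [Finsupp.add_apply, Finsupp.neg_apply, Finsupp.single_apply] at hx
    by_cases h : j = x
    · exact h ▸ hj
    · rw [if_neg h] at hx
      split_ifs at hx <;> omega
  · rw [mono_add, mono_neg, mono_single, mono_single, div_eq_mul_inv]

lemma t_update (i : C.Idx) (l : Fin C.s) (j : Fin (C.k l + 1)) :
    (C.t (Function.update i l j) : Kf y) / (C.t i : Kf y) =
      (C.a l j : Kf y) / (C.a l (i l) : Kf y) := by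
  classical
  have h : C.t (Function.update i l j) * C.a l (i l) = C.t i * C.a l j := by
    rw [t, t, ← Finset.mul_prod_erase _ _ (Finset.mem_univ l),
      ← Finset.mul_prod_erase Finset.univ (fun m => C.a m (i m)) (Finset.mem_univ l),
      Function.update_self, Finset.prod_congr rfl fun m hm => by
        rw [Function.update_of_ne (Finset.ne_of_mem_erase hm)]]
    simp only [mul_comm, mul_left_comm]
  rw [div_eq_div_iff (C.t i).ne_zero (C.a l (i l)).ne_zero]
  simpa [mul_comm] using congrArg Units.val h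

/-- The inverse coordinate, in the standard open of `i`. -/
def e (i : C.Idx) (l : Fin C.s) : C.Bs (fun _ : Fin 1 => i) :=
  ⟨(C.a l (i l) : Kf y)⁻¹, by
    have h := C.div_mem (σ := fun _ : Fin 1 => i) (Function.update i l 0) ⟨0, rfl⟩
    rw [t_update, C.a_zero, Units.val_one, one_div] at h
    exact h⟩

/-- The inclusion of a coordinate algebra. -/
abbrev incl {p : ℕ} (σ : Fin (p + 1) → C.Idx) : CommRingCat.of (C.Bs σ) ⟶ X.residueField y :=
  CommRingCat.ofHom (C.Bs σ).val.toRingHom

include halg in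
theorem span_e [IsProper (X ↘ Spec (CommRingCat.of A))] (i : C.Idx) :
    Ideal.span (Set.range (C.e i)) = ⊤ := by
  by_contra hne
  set B := C.Bs (fun _ : Fin 1 => i)
  let I : Ideal B.toSubring := Ideal.span (Set.range (C.e i))
  obtain ⟨V, hBV, hIV⟩ := Ideal.image_subset_nonunits_valuationSubring (A := B.toSubring) I hne
  let φ : CommRingCat.of A ⟶ CommRingCat.of V :=
    CommRingCat.ofHom ((algebraMap A (Kf y)).codRestrict V.toSubring fun a =>
      hBV (B.algebraMap_mem a))
  let S : ValuativeCommSq (X ↘ Spec (CommRingCat.of A)) :=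
    { R := V
      K := Kf y
      i₁ := X.fromSpecResidueField y
      i₂ := Spec.map φ
      commSq := ⟨by rw [← Spec.map_comp, ← halg]; rfl⟩ }
  have hprop : ValuativeCriterion (X ↘ Spec (CommRingCat.of A)) := by
    have h : IsProper (X ↘ Spec (CommRingCat.of A)) := inferInstance
    rw [IsProper.eq_valuativeCriterion] at h
    exact h.1.1.1
  obtain ⟨L⟩ := (hprop.existence S).exists_lift
  let l := L.l
  have hl1 := L.fac_left
  let l' : Spec (CommRingCat.of V) ⟶ X := l
  have hl' : Spec.map (CommRingCat.ofHom (algebraMap V (Kf y))) ≫ l' = X.fromSpecResidueField y := hl1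
  have hgen : ∀ q : Spec (CommRingCat.of V), q ⤳ IsLocalRing.closedPoint V :=
    fun q => IsLocalRing.specializes_closedPoint q
  have hy : y ⤳ l' (IsLocalRing.closedPoint V) := by
    have h := (hgen (Spec.map (CommRingCat.ofHom (algebraMap V (Kf y)))
      (IsLocalRing.closedPoint (Kf y)))).map l'.continuous
    have h1 : l' (Spec.map (CommRingCat.ofHom (algebraMap V (Kf y)))
        (IsLocalRing.closedPoint (Kf y))) = y :=
      (congrArg (fun φ : Spec (CommRingCat.of (Kf y)) ⟶ X => φ (IsLocalRing.closedPoint (Kf y)))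
        hl').trans (Scheme.fromSpecResidueField_apply _ _)
    rwa [h1] at h
  obtain ⟨m, hm⟩ := C.cover _ hy
  obtain ⟨ψ, hψ⟩ := exists_hom_of_range_subset (C.affine m) l' (by
    rintro _ ⟨q, rfl⟩
    exact ((hgen q).map l'.continuous).mem_open (C.U m).isOpen hm)
  have hψ' : ψ ≫ CommRingCat.ofHom (algebraMap V (Kf y)) = X.evaluation (C.U m) y (C.mem m) := by
    refine hom_ext_of_fromSpec (C.affine m) (R := X.residueField y) ?_
    rw [Spec.map_comp, Category.assoc, hψ, hl', map_evaluation_fromSpec]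
  obtain ⟨g, hg⟩ := C.a_mem m (i m)
  have haV : (C.a m (i m) : Kf y) ∈ V := by
    rw [← hg, ← hψ']
    exact (ψ g).2
  have hnon : ((C.e i m : Kf y)) ∈ V.nonunits :=
    hIV ⟨C.e i m, Ideal.subset_span ⟨m, rfl⟩, rfl⟩
  rcases V.inv_mem_nonunits_iff.1 hnon with h | h
  · exact (C.a m (i m)).ne_zero h
  · exact h haV

include halg in
theorem exists_g_single [IsProper (X ↘ Spec (CommRingCat.of A))] (i : C.Idx) :
    ∃ g : Spec (CommRingCat.of (C.Bs (fun _ : Fin 1 => i))) ⟶ X,
      Spec.map (C.incl _) ≫ g = X.fromSpecResidueField y := by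
  classical
  set B := C.Bs (fun _ : Fin 1 => i)
  have hne : ∀ l, ((C.e i l : B) : Kf y) ≠ 0 := fun l => inv_ne_zero (C.a l (i l)).ne_zero
  let emb : ∀ l, Localization.Away (C.e i l) →+* Kf y := fun l =>
    IsLocalization.Away.lift (C.e i l) (g := B.val.toRingHom) (isUnit_iff_ne_zero.2 (hne l))
  have hembc : ∀ l b, emb l (algebraMap B _ b) = (b : Kf y) := fun l b =>
    IsLocalization.Away.lift_eq (C.e i l) (g := B.val.toRingHom) _ b
  have hemb : ∀ l, Function.Injective (emb l) := by
    intro l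
    rw [injective_iff_map_eq_zero]
    intro x hx
    obtain ⟨n, b, hb⟩ := IsLocalization.Away.surj (C.e i l) x
    have h := congrArg (emb l) hb
    rw [map_mul, hx, zero_mul, hembc] at h
    rw [Subtype.ext (a2 := (0 : B)) h.symm, map_zero] at hb
    exact ((IsLocalization.Away.algebraMap_isUnit (C.e i l)).pow n).mul_left_eq_zero.1 hb
  have hrange : ∀ l g, X.evaluation (C.U l) y (C.mem l) g ∈ (emb l).range := by
    intro l g
    let S : Subalgebra A (Kf y) :=
      { (emb l).range.toSubsemiring with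
        algebraMap_mem' := fun r => ⟨algebraMap B _ (algebraMap A B r), hembc l _⟩ }
    refine (Algebra.adjoin_le ?_ (C.gen l g) : _ ∈ S)
    rintro _ ⟨j, rfl⟩
    refine ⟨algebraMap B _ ⟨_, C.div_mem (σ := fun _ : Fin 1 => i) (Function.update i l j) ⟨0, rfl⟩⟩ *
      IsLocalization.Away.invSelf (C.e i l), ?_⟩
    have h1 : emb l (IsLocalization.Away.invSelf (C.e i l)) = (C.a l (i l) : Kf y) := by
      have := congrArg (emb l) (IsLocalization.Away.mul_invSelf (S := Localization.Away (C.e i l)) (C.e i l))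
      rw [map_mul, hembc, map_one] at this
      have h2 : ((C.e i l : B) : Kf y) = (C.a l (i l) : Kf y)⁻¹ := rfl
      rw [h2] at this
      exact (inv_mul_eq_one₀ (C.a l (i l)).ne_zero).1 this |>.symm
    rw [map_mul, hembc, h1]
    simp only [t_update]
    exact div_mul_cancel₀ _ (C.a l (i l)).ne_zero
  let re : ∀ l, Localization.Away (C.e i l) ≃+* (emb l).range := fun l =>
    RingEquiv.ofBijective (emb l).rangeRestrict
      ⟨fun a b h => hemb l (congrArg Subtype.val h), (emb l).rangeRestrict_surjective⟩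
  let φ : ∀ l, Γ(X, C.U l) ⟶ CommRingCat.of (Localization.Away (C.e i l)) := fun l =>
    CommRingCat.ofHom ((re l).symm.toRingHom.comp
      ((X.evaluation (C.U l) y (C.mem l)).hom.codRestrict (emb l).range (hrange l)))
  have hφ : ∀ l, φ l ≫ (CommRingCat.ofHom (emb l) : _ ⟶ X.residueField y) =
      X.evaluation (C.U l) y (C.mem l) := by
    intro l
    ext g
    have h := (re l).apply_symm_apply ⟨X.evaluation (C.U l) y (C.mem l) g, hrange l g⟩
    exact congrArg Subtype.val h
  let 𝒰 := (Scheme.affineOpenCoverOfSpanRangeEqTop (R := CommRingCat.of B) (C.e i)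
    (C.span_e halg i)).openCover
  let η : ∀ l, Spec (X.residueField y) ⟶ Spec (CommRingCat.of (Localization.Away (C.e i l))) :=
    fun l => Spec.map (CommRingCat.ofHom (emb l))
  have hη : ∀ l, η l ≫ 𝒰.f l = Spec.map (C.incl _) := fun l => by
    refine (Spec.map_comp _ _).symm.trans (congrArg Spec.map ?_)
    ext b
    exact hembc l b
  let f : ∀ l, 𝒰.X l ⟶ X := fun l => Spec.map (φ l) ≫ (C.affine l).fromSpec
  have hf : ∀ l, η l ≫ f l = X.fromSpecResidueField y := fun l => by
    refine (Category.assoc _ _ _).symm.trans ?_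
    change (Spec.map _ ≫ Spec.map _) ≫ _ = _
    refine (congrArg (· ≫ (C.affine l).fromSpec)
      ((Spec.map_comp _ _).symm.trans (congrArg Spec.map (hφ l)))).trans ?_
    exact map_evaluation_fromSpec _ _ _
  haveI hsep : X.IsSeparated :=
    ⟨by rw [← terminal.comp_from (X ↘ Spec (CommRingCat.of A))]; infer_instance⟩
  haveI : IsDominant (Spec.map (C.incl (fun _ : Fin 1 => i))) := by
    constructor
    change DenseRange (PrimeSpectrum.comap (C.Bs (fun _ : Fin 1 => i)).val.toRingHom)
    refine (PrimeSpectrum.denseRange_comap_iff_ker_le_nilRadical _).2 ?_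
    rw [(RingHom.injective_iff_ker_eq_bot _).1 Subtype.val_injective]
    exact bot_le
  refine ⟨𝒰.glueMorphisms f fun a b => ?_, ?_⟩
  · let P := pullback (𝒰.f a) (𝒰.f b)
    let p : P ⟶ Spec (CommRingCat.of B) := pullback.fst _ _ ≫ 𝒰.f a
    haveI : IsReduced P := isReduced_of_isOpenImmersion p
    haveI : IsDominant (pullback.fst p (Spec.map (C.incl (fun _ : Fin 1 => i)))) := by
      constructor
      rw [DenseRange, Scheme.Pullback.range_fst]
      exact (Spec.map (C.incl (fun _ : Fin 1 => i))).denseRange.preimage p.isOpenEmbedding.isOpenMap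
    refine ext_of_isDominant (pullback.fst p (Spec.map (C.incl (fun _ : Fin 1 => i)))) ?_
    let η₀ := Spec.map (C.incl (fun _ : Fin 1 => i))
    have ha : pullback.fst p η₀ ≫ pullback.fst (𝒰.f a) (𝒰.f b) = pullback.snd p η₀ ≫ η a := by
      refine (cancel_mono (𝒰.f a)).1 ((Category.assoc _ _ _).trans (Eq.trans ?_
        ((Category.assoc _ _ _).trans (congrArg _ (hη a))).symm))
      exact pullback.condition
    have hb : pullback.fst p η₀ ≫ pullback.snd (𝒰.f a) (𝒰.f b) = pullback.snd p η₀ ≫ η b := by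
      refine (cancel_mono (𝒰.f b)).1 ((Category.assoc _ _ _).trans (Eq.trans ?_
        ((Category.assoc _ _ _).trans (congrArg _ (hη b))).symm))
      refine (congrArg (pullback.fst p η₀ ≫ ·) pullback.condition.symm).trans ?_
      exact pullback.condition
    rw [reassoc_of% ha, reassoc_of% hb]
    exact (congrArg (pullback.snd p η₀ ≫ ·) (hf a)).trans (congrArg (pullback.snd p η₀ ≫ ·) (hf b)).symm
  · obtain ⟨l⟩ : Nonempty (Fin C.s) := ⟨(C.cover y specializes_rfl).choose⟩
    refine (congrArg (· ≫ _) (hη l).symm).trans ((Category.assoc _ _ _).trans ?_)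
    refine Eq.trans (congrArg (η l ≫ ·) (Scheme.Cover.ι_glueMorphisms _ _ _ _)) ?_
    exact hf l

include halg in
/-- The model maps to `X`. -/
theorem exists_g [IsProper (X ↘ Spec (CommRingCat.of A))] {p : ℕ} (σ : Fin (p + 1) → C.Idx) :
    ∃ g : Spec (CommRingCat.of (C.Bs σ)) ⟶ X,
      Spec.map (C.incl σ) ≫ g = X.fromSpecResidueField y := by
  obtain ⟨g, hg⟩ := C.exists_g_single halg (σ 0)
  have hle : C.Bs (fun _ : Fin 1 => σ 0) ≤ C.Bs σ :=
    C.Bs_mono (by rintro _ ⟨a, rfl⟩; exact ⟨0, rfl⟩)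
  refine ⟨Spec.map (CommRingCat.ofHom (Subalgebra.inclusion hle).toRingHom) ≫ g, ?_⟩
  rw [← Category.assoc, ← Spec.map_comp, show CommRingCat.ofHom (Subalgebra.inclusion hle).toRingHom ≫
    C.incl σ = C.incl _ from rfl, hg]

end Charts

end Groth.Agent.Serre71
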