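import Groth.Agent.Pn71.Laurent
import Mathlib.RingTheory.Polynomial.Basic
import Mathlib.RingTheory.MvPolynomial.Homogeneous
import Mathlib.RingTheory.Finiteness.Basic
import Mathlib.Algebra.MonoidAlgebra.Degree

/-! Vectors of Laurent polynomials with prescribed degree and poles, and homogeneous syzygies. -/

set_option linter.unusedSectionVars false

noncomputable section

namespace Groth.Agent.Serre71

open Pn71

variable (A : Type*) [CommRing A] (ι : Type) [Fintype ι]

/-- Laurent polynomials. -/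
abbrev LP : Type _ := AddMonoidAlgebra A (ι →₀ ℤ)

variable {A ι}

lemma deg_add (a b : ι →₀ ℤ) : deg (a + b) = deg a + deg b := by
  simp [deg, Finset.sum_add_distrib]

lemma exists_add_of_coeff_mul {x y : LP A ι} {c : ι →₀ ℤ} (h : (x * y).coeff c ≠ 0) :
    ∃ a b, x.coeff a ≠ 0 ∧ y.coeff b ≠ 0 ∧ a + b = c := by
  classical
  have hc := AddMonoidAlgebra.support_coeff_mul_subset x y (Finsupp.mem_support_iff.2 h)
  obtain ⟨a, ha, b, hb, rfl⟩ := Finset.mem_add.1 hc
  exact ⟨a, b, Finsupp.mem_support_iff.1 ha, Finsupp.mem_support_iff.1 hb, rfl⟩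

/-- Vectors of degree `n` (component `k` in degree `n - m k`) with poles only along the image of
`σ`. -/
def cellSub {r : ℕ} (m : Fin r → ℤ) (n : ℤ) {α : Type} (σ : α → ι) :
    Submodule A (Fin r → LP A ι) where
  carrier := {v | ∀ k a, (v k).coeff a ≠ 0 → a ∈ cell (n - m k) σ}
  add_mem' {v w} hv hw k a h := by
    by_cases h1 : (v k).coeff a ≠ 0
    · exact hv k a h1
    · exact hw k a (by simpa [not_not.1 h1] using h)
  zero_mem' k a h := absurd (by simp) h
  smul_mem' c v hv k a h := hv k a fun h0 => h (by simp [h0])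

lemma mem_cellSub {r : ℕ} {m : Fin r → ℤ} {n : ℤ} {α : Type} {σ : α → ι}
    {v : Fin r → LP A ι} : v ∈ cellSub m n σ ↔ ∀ k a, (v k).coeff a ≠ 0 → a ∈ cell (n - m k) σ :=
  Iff.rfl

lemma cellSub_mono {r : ℕ} (m : Fin r → ℤ) (n : ℤ) {α β : Type} {σ : α → ι} {τ : β → ι}
    (h : Set.range σ ⊆ Set.range τ) : cellSub (A := A) m n σ ≤ cellSub m n τ :=
  fun _ hv k a ha => ⟨(hv k a ha).1, fun i hi => h ((hv k a ha).2 i hi)⟩

/-- Polynomial vectors. -/
abbrev polySub {r : ℕ} (m : Fin r → ℤ) (n : ℤ) : Submodule A (Fin r → LP A ι) :=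
  cellSub m n (fun i : Empty => (i.elim : ι))

lemma nonneg_of_mem_polySub {r : ℕ} {m : Fin r → ℤ} {n : ℤ} {v : Fin r → LP A ι}
    (hv : v ∈ polySub m n) {k : Fin r} {a : ι →₀ ℤ} (ha : (v k).coeff a ≠ 0) (i : ι) : 0 ≤ a i := by
  by_contra hi
  obtain ⟨e, -⟩ := (hv k a ha).2 i (not_le.1 hi)
  exact e.elim

/-- The map attached to a list of vectors. -/
def Ψ {r s : ℕ} (g : Fin s → Fin r → LP A ι) :
    (Fin s → LP A ι) →ₗ[A] (Fin r → LP A ι) :=
  (Fintype.linearCombination (LP A ι) g).restrictScalars A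

lemma Ψ_apply {r s : ℕ} (g : Fin s → Fin r → LP A ι) (v : Fin s → LP A ι) :
    Ψ g v = ∑ e, v e • g e := rfl

/-- `g e` is a polynomial vector of degree `m' e`. -/
def IsHom {r s : ℕ} (m : Fin r → ℤ) (m' : Fin s → ℤ) (g : Fin s → Fin r → LP A ι) : Prop :=
  ∀ e, g e ∈ polySub m (m' e)

lemma Ψ_mem {r s : ℕ} {m : Fin r → ℤ} {m' : Fin s → ℤ} {g : Fin s → Fin r → LP A ι}
    (hg : IsHom m m' g) {n : ℤ} {α : Type} {σ : α → ι} {v : Fin s → LP A ι}
    (hv : v ∈ cellSub m' n σ) : Ψ g v ∈ cellSub m n σ := by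
  rw [Ψ_apply]
  refine Submodule.sum_mem _ fun e _ k c hc => ?_
  obtain ⟨a, b, ha, hb, rfl⟩ := exists_add_of_coeff_mul (x := v e) (y := g e k) hc
  obtain ⟨ha1, ha2⟩ := hv e a ha
  refine ⟨?_, fun i hi => ha2 i ?_⟩
  · rw [deg_add, ha1, (hg e k b hb).1]
    ring
  · have := nonneg_of_mem_polySub (hg e) hb i
    simp at hi
    omega

variable (A ι) in
/-- Polynomials as Laurent polynomials. -/
def polyToLP : MvPolynomial ι A →ₐ[A] LP A ι :=
  AddMonoidAlgebra.mapDomainAlgHom A A (Finsupp.mapRange.addMonoidHom (Nat.castAddMonoidHom ℤ))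

lemma exists_polyToLP_eq {x : LP A ι} (hx : ∀ a, x.coeff a ≠ 0 → ∀ i, 0 ≤ a i) :
    ∃ f, polyToLP A ι f = x := by
  rw [← AddMonoidAlgebra.sum_coeff_single x]
  refine ⟨x.coeff.sum fun a c => MvPolynomial.monomial (a.mapRange Int.toNat rfl) c, ?_⟩
  rw [map_finsuppSum]
  refine Finsupp.sum_congr fun a ha => ?_
  rw [← MvPolynomial.single_eq_monomial]
  refine AddMonoidAlgebra.mapDomain_single.trans ?_
  congr 1
  ext i
  simp [hx a (Finsupp.mem_support_iff.1 ha) i]

lemma nonneg_of_coeff_polyToLP {f : MvPolynomial ι A} {a : ι →₀ ℤ}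
    (ha : (polyToLP A ι f).coeff a ≠ 0) (i : ι) : 0 ≤ a i := by
  classical
  have h : a ∈ (Finsupp.mapDomain (Finsupp.mapRange.addMonoidHom (Nat.castAddMonoidHom ℤ))
      (AddMonoidAlgebra.coeff f)).support := Finsupp.mem_support_iff.2 ha
  obtain ⟨s, -, rfl⟩ := Finset.mem_image.1 (Finsupp.mapDomain_support h)
  simp

/-- The part of degree `d`. -/
def degPart (d : ℤ) : LP A ι →ₗ[A] LP A ι :=
  (AddMonoidAlgebra.coeffLinearEquiv A).symm.toLinearMap.comp
    (((Finsupp.supported A A {a : ι →₀ ℤ | deg a = d}).subtype.comp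
      (Finsupp.restrictDom A A {a : ι →₀ ℤ | deg a = d})).comp
      (AddMonoidAlgebra.coeffLinearEquiv A).toLinearMap)

lemma coeff_degPart [DecidableEq ℤ] (d : ℤ) (x : LP A ι) (a : ι →₀ ℤ) :
    (degPart d x).coeff a = if deg a = d then x.coeff a else 0 := by
  classical
  simp [degPart, Finsupp.restrictDom, Finsupp.filter_apply]

lemma nonneg_of_coeff_degPart {d : ℤ} {x : LP A ι} {a : ι →₀ ℤ}
    (ha : (degPart d x).coeff a ≠ 0) : deg a = d ∧ x.coeff a ≠ 0 := by
  rw [coeff_degPart] at ha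
  split_ifs at ha with h
  · exact ⟨h, ha⟩
  · exact absurd rfl ha

lemma degPart_mul (d e : ℤ) (x y : LP A ι) (hy : ∀ b, y.coeff b ≠ 0 → deg b = e) :
    degPart (d + e) (x * y) = degPart d x * y := by
  have h0 : ∀ z : LP A ι, (∀ a, z.coeff a ≠ 0 → deg a ≠ d) → degPart (d + e) (z * y) = 0 := by
    intro z hz
    ext c
    rw [coeff_degPart]
    split_ifs with hc
    · by_contra hne
      obtain ⟨a, b, ha, hb, rfl⟩ := exists_add_of_coeff_mul hne
      rw [deg_add, hy b hb] at hc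
      exact hz a ha (by omega)
    · simp
  have h1 : ∀ z : LP A ι, (∀ a, z.coeff a ≠ 0 → deg a = d) → degPart (d + e) (z * y) = z * y := by
    intro z hz
    ext c
    rw [coeff_degPart]
    split_ifs with hc
    · rfl
    · by_contra hne
      obtain ⟨a, b, ha, hb, rfl⟩ := exists_add_of_coeff_mul (Ne.symm hne)
      exact hc (by rw [deg_add, hy b hb, hz a ha])
  conv_lhs => rw [← add_sub_cancel (degPart d x) x, add_mul, map_add]
  rw [h1 _ fun a ha => ?_, h0 _ fun a ha hd => ?_, add_zero]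
  · exact ha (by simp [coeff_degPart, hd])
  · exact ((nonneg_of_coeff_degPart ha).1)

variable [IsNoetherianRing A]

/-- Homogeneous generators for the homogeneous elements of a submodule, in every degree and along
all poles. -/
theorem exists_generators {s : ℕ} (N : Submodule (LP A ι) (Fin s → LP A ι)) (m' : Fin s → ℤ) :
    ∃ (t : ℕ) (m'' : Fin t → ℤ) (g' : Fin t → Fin s → LP A ι), IsHom m' m'' g' ∧
      (∀ e, g' e ∈ N) ∧
      ∀ (n : ℤ) (α : Type) (σ : α → ι), ∀ v ∈ cellSub m' n σ, v ∈ N →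
        ∃ u ∈ cellSub m'' n σ, Ψ g' u = v := by
  classical
  let toV : (Fin s → MvPolynomial ι A) → (Fin s → LP A ι) := fun v k => polyToLP A ι (v k)
  let H : Set (Fin s → MvPolynomial ι A) :=
    {v | toV v ∈ N ∧ ∃ d, toV v ∈ polySub m' d}
  obtain ⟨T, hT, hspan⟩ := (Submodule.fg_span_iff_fg_span_finset_subset H).1
    (IsNoetherian.noetherian (Submodule.span (MvPolynomial ι A) H))
  choose dT hdT using fun v : {v // v ∈ T} => (hT v.2).2
  let e : Fin T.card ≃ {v // v ∈ T} := T.equivFin.symm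
  refine ⟨T.card, fun j => dT (e j), fun j => toV (e j).1, fun j => hdT (e j),
    fun j => (hT (e j).2).1, ?_⟩
  have poly : ∀ (d : ℤ) (v : Fin s → LP A ι), v ∈ polySub m' d → v ∈ N →
      ∃ u ∈ polySub (fun j => dT (e j)) d, Ψ (fun j => toV (e j).1) u = v := by
    intro d v hv hgv
    choose f hf using fun k => exists_polyToLP_eq (x := v k) fun a ha => nonneg_of_mem_polySub hv ha
    have hvf : toV f = v := funext hf
    have hmem : f ∈ Submodule.span (MvPolynomial ι A) (T : Set (Fin s → MvPolynomial ι A)) := by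
      rw [← hspan]
      exact Submodule.subset_span ⟨hvf ▸ hgv, d, hvf ▸ hv⟩
    obtain ⟨c, hc⟩ : ∃ c : Fin T.card → MvPolynomial ι A, ∑ j, c j • (e j).1 = f := by
      rw [← Submodule.mem_span_range_iff_exists_fun]
      convert hmem
      ext x
      exact ⟨fun ⟨j, hj⟩ => hj ▸ (e j).2, fun hx => ⟨e.symm ⟨x, hx⟩, by simp⟩⟩
    refine ⟨fun j => degPart (d - dT (e j)) (polyToLP A ι (c j)), fun j a ha => ?_, ?_⟩
    · obtain ⟨h1, h2⟩ := nonneg_of_coeff_degPart ha
      exact ⟨h1, fun i hi => absurd hi (not_lt.2 (nonneg_of_coeff_polyToLP h2 i))⟩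
    · funext k
      have hk : v k = ∑ j, polyToLP A ι (c j) * toV (e j).1 k := by
        rw [← hf, ← hc]
        simp [toV, Finset.sum_apply]
      have hpart : degPart (d - m' k) (v k) = v k := by
        ext a
        rw [coeff_degPart]
        split_ifs with h
        · rfl
        · exact (by_contra fun hne => h (hv k a (Ne.symm hne)).1)
      rw [← hpart, hk, map_sum, Ψ_apply, Finset.sum_apply]
      refine Finset.sum_congr rfl fun j _ => ?_
      rw [Pi.smul_apply, smul_eq_mul, ← degPart_mul (d - dT (e j)) (dT (e j) - m' k) _ _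
        fun b hb => (hdT (e j) k b hb).1]
      congr 2
      ring
  intro n α σ v hv hgv
  let N' := N
  let N : ℕ := ∑ k, ∑ a ∈ (v k).coeff.support, ∑ i, (-(a i)).toNat
  let w : ι →₀ ℤ := Finsupp.equivFunOnFinite.symm fun i => if i ∈ Set.range σ then (N : ℤ) else 0
  have hw : ∀ i, w i = if i ∈ Set.range σ then (N : ℤ) else 0 := fun i => by simp [w]
  let X : LP A ι := AddMonoidAlgebra.single w 1
  let X' : LP A ι := AddMonoidAlgebra.single (-w) 1
  have hXX : X' * X = 1 := by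
    rw [AddMonoidAlgebra.single_mul_single, neg_add_cancel, one_mul]
    rfl
  have hsingle : ∀ (z : ι →₀ ℤ) (x : LP A ι) (c : ι →₀ ℤ),
      (AddMonoidAlgebra.single z 1 * x).coeff c ≠ 0 → ∃ a, x.coeff a ≠ 0 ∧ c = z + a := by
    intro z x c hc
    obtain ⟨a, b, ha, hb, rfl⟩ := exists_add_of_coeff_mul hc
    refine ⟨b, hb, ?_⟩
    rw [AddMonoidAlgebra.coeff_single, Finsupp.single_apply] at ha
    split_ifs at ha with h
    · rw [h]
    · exact absurd rfl ha
  have hbound : ∀ k a, (v k).coeff a ≠ 0 → ∀ i, -(a i) ≤ N := by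
    intro k a ha i
    have h1 : (-(a i)).toNat ≤ N := by
      refine le_trans ?_ (Finset.single_le_sum (f := fun k => ∑ a ∈ (v k).coeff.support,
        ∑ i, (-(a i)).toNat) (fun _ _ => Nat.zero_le _) (Finset.mem_univ k))
      refine le_trans ?_ (Finset.single_le_sum (f := fun a : ι →₀ ℤ => ∑ i, (-(a i)).toNat)
        (fun _ _ => Nat.zero_le _) (Finsupp.mem_support_iff.2 ha))
      exact Finset.single_le_sum (f := fun i => (-(a i)).toNat) (fun _ _ => Nat.zero_le _)
        (Finset.mem_univ i)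
    omega
  obtain ⟨u, hu, huv⟩ := poly (n + deg w) (fun k => X * v k) (fun k c hc => by
      obtain ⟨a, ha, rfl⟩ := hsingle _ _ _ hc
      refine ⟨by rw [deg_add, (hv k a ha).1]; ring, fun i hi => absurd hi (not_lt.2 ?_)⟩
      have := hbound k a ha i
      rw [Finsupp.add_apply, hw]
      split_ifs with h
      · omega
      · have : ¬ a i < 0 := fun h' => h ((hv k a ha).2 i h')
        omega) (N'.smul_mem X hgv)
  refine ⟨fun j => X' * u j, fun j c hc => ?_, ?_⟩
  · obtain ⟨a, ha, rfl⟩ := hsingle _ _ _ hc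
    refine ⟨?_, fun i hi => ?_⟩
    · rw [deg_add, (hu j a ha).1]
      simp [deg]
      ring
    · by_contra hi'
      rw [Finsupp.add_apply, Finsupp.neg_apply, hw, if_neg hi'] at hi
      have := nonneg_of_mem_polySub hu ha i
      omega
  · have := congrArg (fun z => X' • z) huv
    simp only [Ψ_apply, Finset.smul_sum, smul_smul] at this
    rw [Ψ_apply, this]
    funext k
    simp [← mul_assoc, hXX]

/-- Homogeneous generators for the syzygies of `g`. -/
theorem exists_syzygies {r s : ℕ} (g : Fin s → Fin r → LP A ι) (m' : Fin s → ℤ) :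
    ∃ (t : ℕ) (m'' : Fin t → ℤ) (g' : Fin t → Fin s → LP A ι), IsHom m' m'' g' ∧
      (∀ e, Ψ g (g' e) = 0) ∧
      ∀ (n : ℤ) (α : Type) (σ : α → ι), ∀ v ∈ cellSub m' n σ, Ψ g v = 0 →
        ∃ u ∈ cellSub m'' n σ, Ψ g' u = v :=
  exists_generators (LinearMap.ker (Fintype.linearCombination (LP A ι) g)) m'

end Groth.Agent.Serre71
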