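import Groth.Agent.Serre71.Induction

/-! The twisted Čech complex cut out inside an algebra by a family of units. -/

set_option linter.unusedSectionVars false
set_option maxSynthPendingDepth 6

noncomputable section

namespace Groth.Agent.Serre71

open Pn71

variable {B : Type*} [CommRing B] {K : Type*} [CommRing K] [Algebra B K]
  {ι : Type} [Fintype ι] (t : ι → Kˣ)

/-- The monomial in the units. -/
def mono (a : ι →₀ ℤ) : K := ((∏ i, t i ^ a i : Kˣ) : K)

lemma mono_add (a b : ι →₀ ℤ) : mono t (a + b) = mono t a * mono t b := by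
  simp only [mono, Finsupp.add_apply, zpow_add, Finset.prod_mul_distrib, Units.val_mul]

lemma mono_zero : mono t (0 : ι →₀ ℤ) = 1 := by simp [mono]

variable (B) in
/-- Evaluation of Laurent polynomials at the units. -/
def evalT : LP B ι →ₐ[B] K :=
  AddMonoidAlgebra.lift B K (ι →₀ ℤ)
    { toFun := fun a => mono t a.toAdd
      map_one' := mono_zero t
      map_mul' := fun a b => mono_add t a.toAdd b.toAdd }

lemma evalT_single (a : ι →₀ ℤ) (c : B) :
    evalT B t (AddMonoidAlgebra.single a c) = c • mono t a := by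
  simp [evalT]

variable (B) in
/-- The degree `n` part with poles along `σ`. -/
def Mmod (n : ℤ) {α : Type} (σ : α → ι) : Submodule B K := Submodule.span B (mono t '' cell n σ)

lemma mem_Mmod_iff {n : ℤ} {α : Type} {σ : α → ι} {x : K} :
    x ∈ Mmod B t n σ ↔
      ∃ v ∈ cellSub (A := B) (fun _ : Fin 1 => (0 : ℤ)) n σ, evalT B t (v 0) = x := by
  classical
  constructor
  · intro hx
    induction hx using Submodule.span_induction with
    | mem x hx =>
      obtain ⟨a, ha, rfl⟩ := hx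
      refine ⟨fun _ => AddMonoidAlgebra.single a 1, fun k b hb => ?_, by
        rw [evalT_single, one_smul]⟩
      rw [AddMonoidAlgebra.coeff_single, Finsupp.single_apply] at hb
      split_ifs at hb with h
      · subst h; simpa using ha
      · exact absurd rfl hb
    | zero => exact ⟨0, zero_mem _, map_zero _⟩
    | add a b _ _ iha ihb =>
      obtain ⟨va, hva, rfl⟩ := iha
      obtain ⟨vb, hvb, rfl⟩ := ihb
      exact ⟨va + vb, add_mem hva hvb, map_add _ _ _⟩
    | smul c a _ iha =>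
      obtain ⟨va, hva, rfl⟩ := iha
      exact ⟨c • va, Submodule.smul_mem _ c hva, map_smul (evalT B t) _ _⟩
  · rintro ⟨v, hv, rfl⟩
    rw [← AddMonoidAlgebra.sum_coeff_single (v 0), map_finsuppSum]
    refine Submodule.sum_mem _ fun a ha => ?_
    dsimp only
    rw [evalT_single]
    refine Submodule.smul_mem _ _ (Submodule.subset_span ⟨a, ?_, rfl⟩)
    simpa using hv 0 a (Finsupp.mem_support_iff.1 ha)

lemma Mmod_mono (n : ℤ) {α β : Type} {σ : α → ι} {τ : β → ι} (h : Set.range σ ⊆ Set.range τ) :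
    Mmod B t n σ ≤ Mmod B t n τ :=
  Submodule.span_mono (Set.image_mono fun _ ha => ⟨ha.1, fun i hi => h (ha.2 i hi)⟩)

variable (B) in
/-- Cochains. -/
def MC (n : ℤ) (p : ℕ) : Submodule B ((Fin (p + 1) → ι) → K) :=
  Submodule.pi Set.univ fun σ => Mmod B t n σ

lemma mem_MC {n : ℤ} {p : ℕ} {c : (Fin (p + 1) → ι) → K} :
    c ∈ MC B t n p ↔ ∀ σ, c σ ∈ Mmod B t n σ := by simp [MC, Submodule.mem_pi]

lemma dd_mem_MC {n : ℤ} {p : ℕ} {c : (Fin (p + 1) → ι) → K} (hc : c ∈ MC B t n p) :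
    dd c ∈ MC B t n (p + 1) :=
  (mem_MC t).2 fun τ => Submodule.sum_mem _ fun i _ => Submodule.smul_of_tower_mem _ _
    (Mmod_mono t n (Set.range_comp_subset_range i.succAbove τ) ((mem_MC t).1 hc _))

variable (B) in
/-- Coboundaries. -/
def MB (n : ℤ) : ∀ p, Submodule B ((Fin (p + 1) → ι) → K)
  | 0 => ⊥
  | q + 1 => (MC B t n q).map (ddl B q)

variable (B) in
/-- Evaluation of cochains. -/
def evalC (p : ℕ) : ((Fin (p + 1) → ι) → Fin 1 → LP B ι) →ₗ[B] ((Fin (p + 1) → ι) → K) :=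
  ((evalT B t).toLinearMap.comp (LinearMap.proj (R := B) (φ := fun _ : Fin 1 => LP B ι) 0)).compLeft _

lemma evalC_dd {p : ℕ} (c : (Fin (p + 1) → ι) → Fin 1 → LP B ι) :
    evalC B t (p + 1) (dd c) = dd (evalC B t p c) :=
  funext fun τ => map_dd ((evalT B t).toLinearMap.comp
    (LinearMap.proj (R := B) (φ := fun _ : Fin 1 => LP B ι) 0)).toAddMonoidHom c τ

variable [IsNoetherianRing B]

/-- The cocycles of the image complex, compared to those of a presentation. -/
lemma exists_presentation : ∃ (s : ℕ) (m' : Fin s → ℤ) (g : Fin s → Fin 1 → LP B ι),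
    IsHom (fun _ => (0 : ℤ)) m' g ∧ ∀ n p, ∀ c ∈ MC B t n p, dd c = 0 →
      ∃ c' ∈ Num g m' (fun _ => (0 : ℤ)) n p, evalC B t p c' = c ∧
        ∀ d ∈ Im g m' n p, evalC B t p d = 0 := by
  classical
  let N : Submodule (LP B ι) (Fin 1 → LP B ι) :=
    Submodule.comap (LinearMap.proj (R := LP B ι) (φ := fun _ : Fin 1 => LP B ι) 0)
      (RingHom.ker (evalT B t).toRingHom : Ideal (LP B ι))
  have hN : ∀ v, v ∈ N ↔ evalT B t (v 0) = 0 := fun v => Iff.rfl
  obtain ⟨s, m', g, hg, hgN, hker⟩ := exists_generators N (fun _ => (0 : ℤ))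
  refine ⟨s, m', g, hg, fun n p c hc hd => ?_⟩
  choose v hv hvc using fun σ => (mem_Mmod_iff t).1 ((mem_MC t).1 hc σ)
  have hev : evalC B t p v = c := funext hvc
  refine ⟨v, ⟨mem_CC.2 hv, (mem_Im g m').2 fun τ => ?_⟩, hev, ?_⟩
  · refine hker n _ τ _ (mem_CC.1 (dd_mem_CC (mem_CC.2 hv)) τ) ?_
    have := congrFun (evalC_dd t v) τ
    rw [hev, hd] at this
    exact (hN _).2 this
  · rintro d ⟨e, -, rfl⟩
    funext σ
    have : Ψ g (e σ) ∈ N := by
      rw [Ψ_apply]
      exact Submodule.sum_mem _ fun i _ => N.smul_mem _ (hgN i)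
    exact (hN _).1 this

lemma evalC_mem {n : ℤ} {p : ℕ} {c : (Fin (p + 1) → ι) → Fin 1 → LP B ι}
    (hc : c ∈ CC (fun _ => (0 : ℤ)) n p) : evalC B t p c ∈ MC B t n p :=
  (mem_MC t).2 fun σ => (mem_Mmod_iff t).2 ⟨_, mem_CC.1 hc σ, rfl⟩

lemma evalC_cobC {n : ℤ} {p : ℕ} {c : (Fin (p + 1) → ι) → Fin 1 → LP B ι}
    (hc : c ∈ cobC (fun _ => (0 : ℤ)) n p) : evalC B t p c ∈ MB B t n p := by
  cases p with
  | zero => rw [show c = 0 from (Submodule.mem_bot B).1 hc, map_zero]; exact zero_mem _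
  | succ q =>
    obtain ⟨b, hb, rfl⟩ := hc
    exact ⟨evalC B t q b, evalC_mem t hb, (evalC_dd t b).symm⟩

/-- The cohomology in each degree is finite. -/
theorem image_fin (n : ℤ) (p : ℕ) :
    FinRel (MC B t n p ⊓ LinearMap.ker (ddl B p)) (MB B t n p) := by
  obtain ⟨s, m', g, hg, hpres⟩ := exists_presentation (B := B) t
  obtain ⟨G, hG, hle⟩ := (good B ι p 1 s _ m' g hg).1 n
  refine ⟨G.map (evalC B t p), hG.map _, fun c hc => ?_⟩
  obtain ⟨c', hc', rfl, hIm⟩ := hpres n p c hc.1 hc.2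
  obtain ⟨x, hx, y, hy, rfl⟩ := Submodule.mem_sup.1 (hle hc')
  obtain ⟨y₁, hy₁, y₂, hy₂, rfl⟩ := Submodule.mem_sup.1 hy
  rw [map_add, map_add, hIm _ hy₂, add_zero]
  exact Submodule.add_mem_sup ⟨x, hx, rfl⟩ (evalC_cobC t hy₁)

/-- Positive-degree cohomology vanishes in large degree. -/
theorem image_vanish {p : ℕ} (hp : 0 < p) :
    ∃ n₀ : ℤ, ∀ n, n₀ ≤ n → MC B t n p ⊓ LinearMap.ker (ddl B p) ≤ MB B t n p := by
  obtain ⟨s, m', g, hg, hpres⟩ := exists_presentation (B := B) t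
  obtain ⟨n₀, h⟩ := (good B ι p 1 s _ m' g hg).2 hp
  refine ⟨n₀, fun n hn c hc => ?_⟩
  obtain ⟨c', hc', rfl, hIm⟩ := hpres n p c hc.1 hc.2
  obtain ⟨y₁, hy₁, y₂, hy₂, rfl⟩ := Submodule.mem_sup.1 (h n hn hc')
  rw [map_add, hIm _ hy₂, add_zero]
  exact evalC_cobC t hy₁

end Groth.Agent.Serre71
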