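import Groth.Agent.Serre71.Free
import Groth.Agent.Pn71.Above
import Groth.Agent.Pn71.Monomials

/-! Finiteness and eventual vanishing of twisted Čech complexes of finitely presented systems. -/

set_option linter.unusedSectionVars false
set_option maxSynthPendingDepth 6

noncomputable section

namespace Groth.Agent.Serre71

open Pn71

variable (A : Type*) [CommRing A] {ι : Type} [Fintype ι]

/-- The coboundary as a linear map. -/
def ddl {V : Type*} [AddCommGroup V] [Module A V] (p : ℕ) :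
    ((Fin (p + 1) → ι) → V) →ₗ[A] ((Fin (p + 2) → ι) → V) where
  toFun c := dd c
  map_add' c c' := by ext τ; simp [dd, Finset.sum_add_distrib]
  map_smul' a c := by
    ext τ
    simp only [RingHom.id_apply, Pi.smul_apply, dd, Finset.smul_sum]
    exact Finset.sum_congr rfl fun i _ => smul_comm _ _ _

@[simp] lemma ddl_apply {V : Type*} [AddCommGroup V] [Module A V] {p : ℕ}
    (c : (Fin (p + 1) → ι) → V) : ddl A p c = dd c := rfl

variable {A}

/-- Cochains of degree `n`. -/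
def CC {r : ℕ} (m : Fin r → ℤ) (n : ℤ) (p : ℕ) :
    Submodule A ((Fin (p + 1) → ι) → Fin r → LP A ι) :=
  Submodule.pi Set.univ fun σ => cellSub m n σ

lemma mem_CC {r : ℕ} {m : Fin r → ℤ} {n : ℤ} {p : ℕ} {c : (Fin (p + 1) → ι) → Fin r → LP A ι} :
    c ∈ CC m n p ↔ ∀ σ, c σ ∈ cellSub m n σ := by simp [CC, Submodule.mem_pi]

lemma dd_mem_CC {r : ℕ} {m : Fin r → ℤ} {n : ℤ} {p : ℕ} {c : (Fin (p + 1) → ι) → Fin r → LP A ι}
    (hc : c ∈ CC m n p) : dd c ∈ CC m n (p + 1) :=
  mem_CC.2 fun τ => Submodule.sum_mem _ fun i _ => Submodule.smul_of_tower_mem _ _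
    (cellSub_mono m n (Set.range_comp_subset_range i.succAbove τ) (mem_CC.1 hc _))

variable {r s : ℕ} (g : Fin s → Fin r → LP A ι)

/-- The map of cochains attached to `g`. -/
def ΨC (p : ℕ) :
    ((Fin (p + 1) → ι) → Fin s → LP A ι) →ₗ[A] ((Fin (p + 1) → ι) → Fin r → LP A ι) :=
  (Ψ g).compLeft _

lemma ΨC_apply {p : ℕ} (e : (Fin (p + 1) → ι) → Fin s → LP A ι) (σ : Fin (p + 1) → ι) :
    ΨC g p e σ = Ψ g (e σ) := rfl

lemma dd_ΨC {p : ℕ} (e : (Fin (p + 1) → ι) → Fin s → LP A ι) :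
    dd (ΨC g p e) = ΨC g (p + 1) (dd e) :=
  funext fun τ => (map_dd (Ψ g).toAddMonoidHom e τ).symm

variable (m' : Fin s → ℤ) (m : Fin r → ℤ)

/-- The image of `g`. -/
def Im (n : ℤ) (p : ℕ) : Submodule A ((Fin (p + 1) → ι) → Fin r → LP A ι) :=
  (CC m' n p).map (ΨC g p)

lemma mem_Im {n : ℤ} {p : ℕ} {c : (Fin (p + 1) → ι) → Fin r → LP A ι} :
    c ∈ Im g m' n p ↔ ∀ σ, ∃ u ∈ cellSub m' n σ, Ψ g u = c σ := by
  constructor
  · rintro ⟨e, he, rfl⟩ σ
    exact ⟨e σ, mem_CC.1 he σ, rfl⟩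
  · intro h
    choose u hu hu' using h
    exact ⟨u, mem_CC.2 hu, funext hu'⟩

/-- Relative cocycles. -/
def Num (n : ℤ) (p : ℕ) : Submodule A ((Fin (p + 1) → ι) → Fin r → LP A ι) :=
  CC m n p ⊓ (Im g m' n (p + 1)).comap (ddl A p)

/-- Coboundaries. -/
def cobC (n : ℤ) : ∀ p, Submodule A ((Fin (p + 1) → ι) → Fin r → LP A ι)
  | 0 => ⊥
  | q + 1 => (CC m n q).map (ddl A q)

/-- Relative coboundaries. -/
def Den (n : ℤ) (p : ℕ) : Submodule A ((Fin (p + 1) → ι) → Fin r → LP A ι) :=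
  cobC m n p ⊔ Im g m' n p

/-- `N` is finite modulo `D`. -/
def FinRel {M : Type*} [AddCommGroup M] [Module A M] (N D : Submodule A M) : Prop :=
  ∃ G : Submodule A M, G.FG ∧ N ≤ G ⊔ D

/-- The statement proved by descending induction. -/
def Good (A : Type*) [CommRing A] (ι : Type) [Fintype ι] (p : ℕ) : Prop :=
  ∀ (r s : ℕ) (m : Fin r → ℤ) (m' : Fin s → ℤ) (g : Fin s → Fin r → LP A ι), IsHom m m' g →
    (∀ n, FinRel (Num g m' m n p) (Den g m' m n p)) ∧
      (0 < p → ∃ n₀ : ℤ, ∀ n, n₀ ≤ n → Num g m' m n p ≤ Den g m' m n p)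

section Strata

open Classical in
/-- The range of a tuple, as a finset. -/
def rng {k : ℕ} (σ : Fin k → ι) : Finset ι := Finset.univ.image σ

lemma mem_rng {k : ℕ} (σ : Fin k → ι) (i : ι) : i ∈ rng σ ↔ ∃ a, σ a = i := by
  simp [rng]

lemma range_val_eq {k : ℕ} (σ : Fin k → ι) :
    Set.range (fun i : {x // x ∈ rng σ} => i.1) = Set.range σ := by
  ext i
  simp [mem_rng]

lemma rng_comp_subset {k l : ℕ} (σ : Fin k → ι) (f : Fin l → Fin k) : rng (σ ∘ f) ⊆ rng σ :=
  fun i hi => by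
    obtain ⟨a, ha⟩ := (mem_rng _ _).1 hi
    exact (mem_rng _ _).2 ⟨f a, ha⟩

/-- A tuple, as a tuple in its range or any set containing it. -/
def cores {k : ℕ} (σ : Fin k → ι) {I : Finset ι} (h : rng σ ⊆ I) : Fin k → {x // x ∈ I} :=
  fun a => ⟨σ a, h ((mem_rng σ _).2 ⟨a, rfl⟩)⟩

lemma surjective_cores_iff {k : ℕ} (σ : Fin k → ι) {I : Finset ι} (h : rng σ ⊆ I) :
    Function.Surjective (cores σ h) ↔ rng σ = I := by
  constructor
  · intro hs
    refine le_antisymm h fun i hi => ?_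
    obtain ⟨a, ha⟩ := hs ⟨i, hi⟩
    exact (mem_rng σ i).2 ⟨a, congrArg Subtype.val ha⟩
  · rintro rfl ⟨i, hi⟩
    obtain ⟨a, ha⟩ := (mem_rng σ i).1 hi
    exact ⟨a, Subtype.ext ha⟩

lemma stratum (n : ℤ) {q : ℕ} (hq : Fintype.card ι ≤ q + 1) (c : (Fin (q + 2) → ι) → Fin r → LP A ι)
    (hc : c ∈ Num g m' m n (q + 1)) (j : ℕ)
    (hsmall : ∀ σ, (rng σ).card < j → ∃ u ∈ cellSub m' n σ, Ψ g u = c σ) :
    ∃ b ∈ CC m n q, ∀ σ, (rng σ).card ≤ j →
      ∃ u ∈ cellSub m' n σ, Ψ g u = c σ - dd b σ := by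
  classical
  have hc1 := mem_CC.1 hc.1
  have hc2 := (mem_Im g m').1 hc.2
  let C : Finset ι → Submodule A (Fin r → LP A ι) := fun I =>
    cellSub m n (fun i : {x // x ∈ I} => i.1)
  let W : ∀ I : Finset ι, Submodule A (C I) := fun I =>
    ((cellSub m' n (fun i : {x // x ∈ I} => i.1)).map (Ψ g)).comap (C I).subtype
  have hC : ∀ {k : ℕ} (σ : Fin k → ι) {I : Finset ι}, rng σ ⊆ I → cellSub (A := A) m n σ ≤ C I :=
    fun σ I h => cellSub_mono m n fun i hi => by
      obtain ⟨a, rfl⟩ := hi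
      exact ⟨⟨σ a, h ((mem_rng σ _).2 ⟨a, rfl⟩)⟩, rfl⟩
  let f : ∀ I : Finset ι, (Fin (q + 2) → {x // x ∈ I}) → (C I ⧸ W I) := fun I τ =>
    if h : rng (Subtype.val ∘ τ) = I then
      Submodule.Quotient.mk ⟨c (Subtype.val ∘ τ), hC _ h.le (hc1 _)⟩
    else 0
  have hf : ∀ I, ∀ τ, ¬ Function.Surjective τ → f I τ = 0 := by
    intro I τ hτ
    simp only [f]
    rw [dif_neg]
    intro h
    exact hτ ((surjective_cores_iff (Subtype.val ∘ τ) h.le).2 h)
  have hdd : ∀ I : Finset ι, I.card = j → dd (f I) = 0 := by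
    intro I hI
    funext τ
    rw [Pi.zero_apply]
    by_cases hτ : rng (Subtype.val ∘ τ) = I
    swap
    · refine Finset.sum_eq_zero fun i _ => ?_
      rw [hf I _ (fun hs => hτ ?_), smul_zero]
      exact (surjective_cores_iff (Subtype.val ∘ τ) (fun x hx => by
        obtain ⟨a, rfl⟩ := (mem_rng _ _).1 hx
        exact (τ a).2)).1 fun x => by
          obtain ⟨a, ha⟩ := hs x
          exact ⟨i.succAbove a, ha⟩
    have hmem : ∀ i : Fin (q + 3), c ((Subtype.val ∘ τ) ∘ i.succAbove) ∈ C I := fun i =>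
      hC _ ((rng_comp_subset _ _).trans hτ.le) (hc1 _)
    have key : ∀ i : Fin (q + 3), f I (τ ∘ i.succAbove) =
        Submodule.Quotient.mk ⟨c ((Subtype.val ∘ τ) ∘ i.succAbove), hmem i⟩ := by
      intro i
      simp only [f]
      split_ifs with h
      · rfl
      · symm
        rw [Submodule.Quotient.mk_eq_zero]
        have hlt : (rng ((Subtype.val ∘ τ) ∘ i.succAbove)).card < j := hI ▸ Finset.card_lt_card
          (lt_of_le_of_ne ((rng_comp_subset _ _).trans hτ.le) h)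
        obtain ⟨u, hu, hu'⟩ := hsmall _ hlt
        refine ⟨u, cellSub_mono m' n ?_ hu, hu'⟩
        rintro _ ⟨a, rfl⟩
        exact ⟨τ (i.succAbove a), rfl⟩
    obtain ⟨u, hu, hu'⟩ := hc2 (Subtype.val ∘ τ)
    rw [ddl_apply, dd] at hu'
    simp only [dd, key, ← Submodule.mkQ_apply, ← map_zsmul, ← map_sum]
    rw [Submodule.mkQ_apply, Submodule.Quotient.mk_eq_zero]
    refine ⟨u, cellSub_mono m' n ?_ hu, ?_⟩
    · rintro _ ⟨a, rfl⟩
      exact ⟨τ a, rfl⟩
    · rw [hu']
      simp only [map_sum, map_zsmul]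
      rfl
  have hg : ∀ I : Finset ι, ∃ h : (Fin (q + 1) → {x // x ∈ I}) → (C I ⧸ W I),
      I.card = j → (∀ σ, ¬ Function.Surjective σ → h σ = 0) ∧ dd h = f I := by
    intro I
    by_cases hI : I.card = j
    · obtain ⟨h, h1, h2⟩ := exists_dd_eq_rel q {x // x ∈ I}
        (by rw [Fintype.card_coe]; exact (Finset.card_le_univ I).trans hq) (f I) (hf I) (hdd I hI)
      exact ⟨h, fun _ => ⟨h1, h2⟩⟩
    · exact ⟨0, fun h => absurd h hI⟩
  choose h hh using hg
  let lift : ∀ I : Finset ι, (C I ⧸ W I) → C I := fun I =>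
    Function.surjInv (Submodule.Quotient.mk_surjective (W I))
  have hlift : ∀ I x, Submodule.Quotient.mk (lift I x) = x := fun I =>
    Function.surjInv_eq (Submodule.Quotient.mk_surjective (W I))
  let b : (Fin (q + 1) → ι) → Fin r → LP A ι := fun σ =>
    if (rng σ).card = j then (lift (rng σ) (h _ (cores σ subset_rfl))).1 else 0
  refine ⟨b, mem_CC.2 fun σ => ?_, fun σ hσ => ?_⟩
  · simp only [b]
    split_ifs with hj
    · exact cellSub_mono m n (range_val_eq σ).le (lift _ _).2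
    · exact zero_mem _
  have hbzero : ∀ τ : Fin (q + 1) → ι, (rng τ).card ≠ j → b τ = 0 := fun τ hτ => if_neg hτ
  rcases hσ.lt_or_eq with hlt | heq
  · obtain ⟨u, hu, hu'⟩ := hsmall σ hlt
    refine ⟨u, hu, ?_⟩
    rw [hu', show dd b σ = 0 from Finset.sum_eq_zero fun i _ => ?_, sub_zero]
    rw [hbzero _ (ne_of_lt ((Finset.card_le_card (rng_comp_subset σ _)).trans_lt hlt)), smul_zero]
  · set I := rng σ with hI
    have hmemb : ∀ i : Fin (q + 2), b (σ ∘ i.succAbove) ∈ C I := fun i => by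
      simp only [b]
      split_ifs with hj
      · have e : rng (σ ∘ i.succAbove) = I :=
          Finset.eq_of_subset_of_card_le (rng_comp_subset σ _) (by omega)
        exact e ▸ (lift _ _).2
      · exact zero_mem _
    have key : ∀ i : Fin (q + 2), (Submodule.Quotient.mk (p := W I) ⟨_, hmemb i⟩) =
        h I (cores σ subset_rfl ∘ i.succAbove) := by
      intro i
      by_cases hj : (rng (σ ∘ i.succAbove)).card = j
      · have e : rng (σ ∘ i.succAbove) = I :=
          Finset.eq_of_subset_of_card_le (rng_comp_subset σ _) (by omega)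
        have : ∀ (J : Finset ι) (eJ : J = I) (hJ : rng (σ ∘ i.succAbove) ⊆ J) (x : C I),
            x.1 = (lift J (h J (cores (σ ∘ i.succAbove) hJ))).1 →
              Submodule.Quotient.mk (p := W I) x = h I (cores σ subset_rfl ∘ i.succAbove) := by
          rintro J rfl hJ x hx
          rw [show x = lift I _ from Subtype.ext hx, hlift]
          rfl
        exact this _ e subset_rfl _ (if_pos hj)
      · rw [show (⟨_, hmemb i⟩ : C I) = 0 from Subtype.ext (hbzero _ hj), Submodule.Quotient.mk_zero,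
          (hh I heq).1 _ fun hs => hj ?_]
        have : rng (σ ∘ i.succAbove) = I :=
          (surjective_cores_iff (σ ∘ i.succAbove) (rng_comp_subset σ _)).1 hs
        rw [this, heq]
    have h1 : (Submodule.Quotient.mk (p := W I)
        ⟨c σ, hC σ subset_rfl (hc1 σ)⟩) = dd (h I) (cores σ subset_rfl) := by
      rw [(hh I heq).2]
      have hr : rng (Subtype.val ∘ cores σ (subset_refl I)) = I := rfl
      simp only [f]
      rw [dif_pos hr]
      rfl
    have h2 : (Submodule.Quotient.mk (p := W I) (∑ i : Fin (q + 2),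
        ((-1 : ℤ) ^ (i : ℕ)) • (⟨_, hmemb i⟩ : C I))) = dd (h I) (cores σ subset_rfl) := by
      simp only [dd, ← key, ← Submodule.mkQ_apply, map_sum, map_zsmul]
    obtain ⟨u, hu, hu'⟩ := (Submodule.Quotient.eq (W I)).1 (h1.trans h2.symm)
    refine ⟨u, cellSub_mono m' n (range_val_eq σ).le hu, hu'.trans ?_⟩
    simp [dd]

theorem vanish_above (n : ℤ) {q : ℕ} (hq : Fintype.card ι ≤ q + 1) :
    Num g m' m n (q + 1) ≤ Den g m' m n (q + 1) := by
  intro c hc
  have key : ∀ j : ℕ, ∃ b ∈ CC m n q, ∀ σ, (rng σ).card < j →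
      ∃ u ∈ cellSub m' n σ, Ψ g u = c σ - dd b σ := by
    intro j
    induction j with
    | zero => exact ⟨0, zero_mem _, fun σ h => absurd h (Nat.not_lt_zero _)⟩
    | succ j ih =>
      obtain ⟨b, hb, hbs⟩ := ih
      have hc' : c - dd b ∈ Num g m' m n (q + 1) := by
        refine ⟨sub_mem hc.1 (dd_mem_CC hb), ?_⟩
        change dd (c - dd b) ∈ Im g m' n (q + 2)
        rw [dd_sub, dd_dd, sub_zero]
        exact hc.2
      obtain ⟨b', hb', hbs'⟩ := stratum g m' m n hq _ hc' j hbs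
      refine ⟨b + b', add_mem hb hb', fun σ hσ => ?_⟩
      obtain ⟨u, hu, hu'⟩ := hbs' σ (Nat.lt_succ_iff.1 hσ)
      refine ⟨u, hu, hu'.trans ?_⟩
      rw [show dd (b + b') = dd b + dd b' from map_add (ddl A q) b b', Pi.add_apply, Pi.sub_apply]
      abel
  obtain ⟨b, hb, hbs⟩ := key (Fintype.card ι + 1)
  refine Submodule.mem_sup.2 ⟨dd b, ⟨b, hb, rfl⟩, c - dd b, (mem_Im g m').2 fun σ => ?_,
    add_sub_cancel _ _⟩
  exact hbs σ (Nat.lt_succ_of_le (Finset.card_le_univ _))

end Strata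

section Laurent

lemma coeff_dd {p : ℕ} (c : (Fin (p + 1) → ι) → Fin r → LP A ι) (k : Fin r) (τ : Fin (p + 2) → ι) :
    ((dd c τ) k).coeff = dd (fun σ => (c σ k).coeff) τ :=
  map_dd ((AddMonoidAlgebra.coeffLinearEquiv (M := ι →₀ ℤ) A).toLinearMap.comp
    (LinearMap.proj (R := A) (φ := fun _ : Fin r => LP A ι) k)).toAddMonoidHom c τ

lemma coord_mem {p : ℕ} {n : ℤ} {c : (Fin (p + 1) → ι) → Fin r → LP A ι} (hc : c ∈ CC m n p)
    (k : Fin r) : (fun σ => (c σ k).coeff) ∈ Cochain A ι (n - m k) p :=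
  mem_cochain.2 fun σ a ha => mem_CC.1 hc σ k a ha

lemma dd_coord_eq_zero {p : ℕ} {c : (Fin (p + 1) → ι) → Fin r → LP A ι} (hd : dd c = 0)
    (k : Fin r) : dd (fun σ => (c σ k).coeff) = 0 := by
  funext τ
  rw [← coeff_dd, hd]
  simp

/-- Vectors supported in a finite set of exponents. -/
def finSub (T : Finset (ι →₀ ℤ)) (p : ℕ) :
    ((Fin (p + 1) → ι) → Fin r → T → A) →ₗ[A] ((Fin (p + 1) → ι) → Fin r → LP A ι) :=
  LinearMap.compLeft (LinearMap.compLeft
    (∑ a : T, (AddMonoidAlgebra.coeffLinearEquiv A).symm.toLinearMap.comp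
      ((Finsupp.lsingle a.1).comp (LinearMap.proj a))) _) _

lemma mem_range_finSub {T : Finset (ι →₀ ℤ)} {p : ℕ} {c : (Fin (p + 1) → ι) → Fin r → LP A ι}
    (hc : ∀ σ k a, (c σ k).coeff a ≠ 0 → a ∈ T) : c ∈ LinearMap.range (finSub (r := r) T p) := by
  classical
  refine ⟨fun σ k a => (c σ k).coeff a.1, funext fun σ => funext fun k => ?_⟩
  refine AddMonoidAlgebra.coeff_injective ?_
  ext a
  simp only [finSub, LinearMap.compLeft_apply, Function.comp_apply, LinearMap.coe_sum,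
    Finset.sum_apply, LinearMap.comp_apply, LinearMap.proj_apply, AddMonoidAlgebra.coeff_sum,
    Finsupp.finsetSum_apply, LinearEquiv.coe_coe]
  change ∑ x : T, (Finsupp.single x.1 ((c σ k).coeff x.1)) a = _
  by_cases ha : a ∈ T
  · rw [Finset.sum_eq_single ⟨a, ha⟩ (fun x _ hx => Finsupp.single_eq_of_ne fun e =>
      hx (Subtype.ext e.symm)) (fun h => absurd (Finset.mem_univ _) h), Finsupp.single_eq_same]
  · rw [Finset.sum_eq_zero fun x _ => Finsupp.single_eq_of_ne fun e : a = x.1 => ha (e ▸ x.2)]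
    exact (not_not.1 fun h => ha (hc σ k a h)).symm

lemma fg_range_finSub (T : Finset (ι →₀ ℤ)) (p : ℕ) :
    (LinearMap.range (finSub (A := A) (r := r) T p)).FG := by
  rw [LinearMap.range_eq_map]
  exact Module.Finite.fg_top.map _

open Classical in
lemma laurent_fin (n : ℤ) (p : ℕ) :
    FinRel (CC (A := A) (ι := ι) m n p ⊓ LinearMap.ker (ddl A p)) (cobC m n p) := by
  cases p with
  | zero =>
    rcases subsingleton_or_nontrivial ι with hι | hι
    · have : ∀ k, {a : ι →₀ ℤ | deg a = n - m k}.Finite := fun k =>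
        Set.Subsingleton.finite fun a ha b hb => Finsupp.ext fun i => by
          simp only [Set.mem_ofPred_eq, deg, Fintype.sum_subsingleton _ i] at ha hb
          omega
      refine ⟨_, fg_range_finSub (Finset.univ.biUnion fun k => (this k).toFinset) 0,
        le_trans (fun c hc => mem_range_finSub fun σ k a ha => ?_) le_sup_left⟩
      exact Finset.mem_biUnion.2 ⟨k, Finset.mem_univ _,
        (this k).mem_toFinset.2 (mem_CC.1 hc.1 σ k a ha).1⟩
    · refine ⟨_, fg_range_finSub (Finset.univ.biUnion fun k =>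
        (finite_posCell (ι := ι) (n - m k)).toFinset) 0,
        le_trans (fun c hc => mem_range_finSub fun σ k a ha => ?_) le_sup_left⟩
      have h := (degree_zero hι _ (coord_mem m hc.1 k) (dd_coord_eq_zero hc.2 k) σ (σ 0)).2
      exact Finset.mem_biUnion.2 ⟨k, Finset.mem_univ _, Set.Finite.mem_toFinset _ |>.2
        (by_contra fun hn => ha ((Finsupp.mem_supported' _ _).1 h a hn))⟩
  | succ q =>
    refine ⟨_, fg_range_finSub (Finset.univ.biUnion fun k =>
      (finite_negCell (ι := ι) (n - m k)).toFinset) (q + 1), fun c hc => ?_⟩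
    let F : Fin r → ((ι →₀ ℤ) →₀ A) →+ ((ι →₀ ℤ) →₀ A) := fun k =>
      Finsupp.filterAddHom (· ∈ negCell (ι := ι) (n - m k))
    let N : (Fin (q + 2) → ι) → Fin r → LP A ι := fun σ k =>
      AddMonoidAlgebra.ofCoeff (F k (c σ k).coeff)
    have hN : ∀ σ k a, (N σ k).coeff a =
        if a ∈ negCell (ι := ι) (n - m k) then (c σ k).coeff a else 0 := fun σ k a =>
      Finsupp.filter_apply _ _ _
    have hd : ∀ k, dd (fun σ => (N σ k).coeff) = 0 := fun k => funext fun τ => by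
      refine (map_dd (F k) (fun σ => (c σ k).coeff) τ).symm.trans ?_
      rw [dd_coord_eq_zero hc.2 k, Pi.zero_apply, map_zero]
    have hNmem : N ∈ CC m n (q + 1) := mem_CC.2 fun σ k a ha => mem_CC.1 hc.1 σ k a fun h =>
      ha (by rw [hN, h, ite_self])
    have hex : ∀ k, ∃ b ∈ Cochain A ι (n - m k) q,
        dd b = fun σ => ((c - N) σ k).coeff := fun k =>
      exists_dd_eq _ (coord_mem m (sub_mem hc.1 hNmem) k) (by
        rw [show (fun σ => ((c - N) σ k).coeff) =
          (fun σ => (c σ k).coeff) - fun σ => (N σ k).coeff from rfl, dd_sub,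
          dd_coord_eq_zero hc.2 k, hd k, sub_zero])
        (fun σ a ha => by
          simp only [Pi.sub_apply, AddMonoidAlgebra.coeff_sub, Finsupp.sub_apply, hN]
          split_ifs with h
          · exact sub_self _
          · rw [sub_zero]
            exact by_contra fun hne => h ⟨(mem_CC.1 hc.1 σ k a hne).1, ha⟩)
    choose b hb hb' using hex
    refine Submodule.mem_sup.2 ⟨N, mem_range_finSub fun σ k a ha => ?_, c - N,
      ⟨fun σ k => AddMonoidAlgebra.ofCoeff (b k σ), mem_CC.2 fun σ k a ha => ?_,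
        funext fun τ => funext fun k => AddMonoidAlgebra.coeff_injective ?_⟩, add_sub_cancel _ _⟩
    · rw [hN] at ha
      split_ifs at ha with h
      · exact Finset.mem_biUnion.2 ⟨k, Finset.mem_univ _, (Set.Finite.mem_toFinset _).2 h⟩
      · exact absurd rfl ha
    · exact mem_cochain.1 (hb k) σ a ha
    · rw [ddl_apply, coeff_dd]
      exact congrFun (hb' k) τ

lemma laurent_vanish (n : ℤ) (q : ℕ) (hn : ∀ k, -(Fintype.card ι : ℤ) < n - m k) :
    CC (A := A) (ι := ι) m n (q + 1) ⊓ LinearMap.ker (ddl A (q + 1)) ≤ cobC m n (q + 1) := by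
  intro c hc
  have hex : ∀ k, ∃ b ∈ Cochain A ι (n - m k) q, dd b = fun σ => (c σ k).coeff := fun k =>
    exists_dd_eq _ (coord_mem m hc.1 k) (dd_coord_eq_zero hc.2 k) fun σ a ha =>
      by_contra fun hne => (negCell_eq_empty (hn k)).subset
        (show a ∈ negCell (ι := ι) (n - m k) from ⟨(mem_CC.1 hc.1 σ k a hne).1, ha⟩)
  choose b hb hb' using hex
  refine ⟨fun σ k => AddMonoidAlgebra.ofCoeff (b k σ), mem_CC.2 fun σ k a ha => ?_,
    funext fun τ => funext fun k => AddMonoidAlgebra.coeff_injective ?_⟩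
  · exact mem_cochain.1 (hb k) σ a ha
  · rw [ddl_apply, coeff_dd]
    exact congrFun (hb' k) τ

end Laurent

end Groth.Agent.Serre71

namespace Groth.Agent.Serre71

open Pn71

variable {A : Type*} [CommRing A] [IsNoetherianRing A] {ι : Type} [Fintype ι]

lemma good_of_card_le {p : ℕ} (hp : Fintype.card ι ≤ p) : Good A ι p := by
  intro r s m m' g _
  cases p with
  | zero =>
    have : IsEmpty ι := Fintype.card_eq_zero_iff.1 (Nat.le_zero.1 hp)
    refine ⟨fun n => ⟨⊥, Submodule.fg_bot, fun c _ => ?_⟩, fun h => absurd h (lt_irrefl 0)⟩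
    rw [show c = 0 from funext fun σ => (IsEmpty.false (σ 0)).elim]
    exact zero_mem _
  | succ q =>
    exact ⟨fun n => ⟨⊥, Submodule.fg_bot, (vanish_above g m' m n hp).trans le_sup_right⟩,
      fun _ => ⟨0, fun n _ => vanish_above g m' m n hp⟩⟩

lemma good_step {p : ℕ} (hp : Good A ι (p + 1)) : Good A ι p := by
  classical
  intro r s m m' g hg
  obtain ⟨t, m'', g', hg', hzero, hker⟩ := exists_syzygies g m'
  obtain ⟨hfin, hvan⟩ := hp s t m' m'' g' hg'
  have hΨ : ∀ k (x : (Fin (k + 1) → ι) → Fin t → LP A ι), ΨC g k (ΨC g' k x) = 0 := by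
    intro k x
    funext σ
    rw [ΨC_apply, ΨC_apply, Ψ_apply g', map_sum, Pi.zero_apply]
    refine Finset.sum_eq_zero fun e _ => ?_
    rw [show Ψ g (x σ e • g' e) = x σ e • Ψ g (g' e) from
      map_smul (Fintype.linearCombination (LP A ι) g) _ _, hzero e, smul_zero]
  let T : ℤ → Submodule A ((Fin (p + 2) → ι) → Fin s → LP A ι) := fun n =>
    CC m' n (p + 1) ⊓ ((CC m n p).map (ddl A p)).comap (ΨC g (p + 1))
  have hT : ∀ n, T n ≤ Num g' m'' m' n (p + 1) := by
    intro n e he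
    obtain ⟨c, -, hce⟩ := he.2
    refine ⟨he.1, (mem_Im g' m'').2 fun τ => hker n _ τ _ (mem_CC.1 (dd_mem_CC he.1) τ) ?_⟩
    have : ΨC g (p + 2) (dd e) = 0 := by rw [← dd_ΨC, ← hce, ddl_apply, dd_dd]
    exact congrFun this τ
  have hsplit : ∀ n (c : (Fin (p + 1) → ι) → Fin r → LP A ι), c ∈ Num g m' m n p →
      ∀ cx ∈ CC m n p, ∀ d ∈ Den g' m'' m' n (p + 1), dd (c - cx) = ΨC g (p + 1) d →
        c - cx ∈ (CC m n p ⊓ LinearMap.ker (ddl A p)) ⊔ Den g m' m n p := by
    intro n c hc cx hcx d hd h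
    obtain ⟨d₁, ⟨b, hb, rfl⟩, d₂, ⟨x, hx, rfl⟩, rfl⟩ := Submodule.mem_sup.1 hd
    refine Submodule.mem_sup.2 ⟨c - cx - ΨC g p b, ⟨?_, ?_⟩, ΨC g p b,
      Submodule.mem_sup_right ⟨b, hb, rfl⟩, sub_add_cancel _ _⟩
    · exact sub_mem (sub_mem hc.1 hcx) (mem_CC.2 fun σ => Ψ_mem hg (mem_CC.1 hb σ))
    · change dd (c - cx - ΨC g p b) = 0
      rw [dd_sub, h, dd_ΨC, map_add, hΨ, ddl_apply, add_zero, sub_self]
  refine ⟨fun n => ?_, fun hp0 => ?_⟩
  · obtain ⟨G'', hG'', hle⟩ := hfin n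
    have hS : (G'' ⊓ (T n ⊔ Den g' m'' m' n (p + 1))).FG := by
      have : IsNoetherian A G'' := isNoetherian_of_fg_of_noetherian _ hG''
      have : IsNoetherian A ↥(G'' ⊓ (T n ⊔ Den g' m'' m' n (p + 1))) := isNoetherian_of_le inf_le_left
      exact Module.Finite.iff_fg.1 inferInstance
    obtain ⟨S, hS⟩ := hS
    have hsplitS : ∀ x : S, ∃ t ∈ T n, x.1 - t ∈ Den g' m'' m' n (p + 1) := fun x => by
      have hx : x.1 ∈ G'' ⊓ (T n ⊔ Den g' m'' m' n (p + 1)) := hS ▸ Submodule.subset_span x.2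
      obtain ⟨a, ha, b, hb, hab⟩ := Submodule.mem_sup.1 hx.2
      exact ⟨a, ha, by rw [← hab, add_sub_cancel_left]; exact hb⟩
    choose tS htS htS' using hsplitS
    choose cS hcS hcS' using fun x : S => (htS x).2
    obtain ⟨G, hG, hGle⟩ := laurent_fin (A := A) (ι := ι) m n p
    refine ⟨Submodule.span A (Set.range cS) ⊔ G,
      (Submodule.fg_span (Set.finite_range cS)).sup hG, fun c hc => ?_⟩
    obtain ⟨e, he, hce⟩ := hc.2
    have heT : e ∈ T n := ⟨he, c, hc.1, hce.symm⟩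
    obtain ⟨x, hx, d, hd, hxd⟩ := Submodule.mem_sup.1 (hle (hT n heT))
    have hxS : x ∈ Submodule.span A (S : Set _) := by
      rw [hS]
      refine ⟨hx, ?_⟩
      rw [← add_sub_cancel_right x d, hxd]
      exact sub_mem (Submodule.mem_sup_left heT) (Submodule.mem_sup_right hd)
    have key : ∀ x ∈ Submodule.span A (S : Set _), ∃ cx ∈ Submodule.span A (Set.range cS),
        ∃ d' ∈ Den g' m'' m' n (p + 1), dd cx = ΨC g (p + 1) (x - d') := by
      intro x hx
      induction hx using Submodule.span_induction with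
      | mem x hx =>
        exact ⟨cS ⟨x, hx⟩, Submodule.subset_span ⟨_, rfl⟩, x - tS ⟨x, hx⟩, htS' ⟨x, hx⟩, by
          rw [sub_sub_cancel]; exact hcS' ⟨x, hx⟩⟩
      | zero => exact ⟨0, zero_mem _, 0, zero_mem _, by simpa using map_zero (ddl A p)⟩
      | add a b _ _ iha ihb =>
        obtain ⟨ca, hca, da, hda, ea⟩ := iha
        obtain ⟨cb, hcb, db, hdb, eb⟩ := ihb
        refine ⟨ca + cb, add_mem hca hcb, da + db, add_mem hda hdb, ?_⟩
        rw [show dd (ca + cb) = dd ca + dd cb from map_add (ddl A p) ca cb, ea, eb, ← map_add]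
        congr 1
        abel
      | smul a b _ ihb =>
        obtain ⟨cb, hcb, db, hdb, eb⟩ := ihb
        refine ⟨a • cb, Submodule.smul_mem _ a hcb, a • db, Submodule.smul_mem _ a hdb, ?_⟩
        rw [show dd (a • cb) = a • dd cb from map_smul (ddl A p) a cb, eb, ← map_smul, smul_sub]
    obtain ⟨cx, hcx, d', hd', hdd'⟩ := key x hxS
    have hcxCC : cx ∈ CC m n p :=
      Submodule.span_le.2 (by rintro _ ⟨y, rfl⟩; exact hcS y) hcx
    have hfinal := hsplit n c hc cx hcxCC (d' + d) (add_mem hd' hd) (by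
      rw [dd_sub, ← ddl_apply A c, ← hce, hdd', ← hxd, ← map_sub]
      congr 1
      abel)
    obtain ⟨z, hz, w, hw, hzw⟩ := Submodule.mem_sup.1 hfinal
    rw [← sub_add_cancel c cx, ← hzw]
    refine add_mem (add_mem ?_ (Submodule.mem_sup_right hw))
      (Submodule.mem_sup_left (Submodule.mem_sup_left hcx))
    exact SetLike.le_def.1 (sup_le_sup le_sup_right le_sup_left) (hGle hz)
  · obtain ⟨n₁, hn₁⟩ := hvan p.succ_pos
    obtain ⟨q, rfl⟩ : ∃ q, p = q + 1 := ⟨p - 1, by omega⟩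
    refine ⟨max n₁ (∑ k, |m k| + 1), fun n hn c hc => ?_⟩
    obtain ⟨e, he, hce⟩ := hc.2
    have hd := hn₁ n (le_trans (le_max_left _ _) hn) (hT n ⟨he, c, hc.1, hce.symm⟩)
    have h := hsplit n c hc 0 (zero_mem _) e hd (by rw [sub_zero]; exact hce.symm)
    rw [sub_zero] at h
    obtain ⟨z, hz, w, hw, rfl⟩ := Submodule.mem_sup.1 h
    refine add_mem (Submodule.mem_sup_left (laurent_vanish m n q (fun k => ?_) hz)) hw
    have h1 : m k ≤ ∑ k, |m k| := (le_abs_self _).trans
      (Finset.single_le_sum (f := fun k => |m k|) (fun _ _ => abs_nonneg _) (Finset.mem_univ k))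
    have h2 := le_trans (le_max_right _ _) hn
    omega

variable (A ι) in
/-- Finiteness and eventual vanishing in every degree. -/
theorem good (p : ℕ) : Good A ι p := by
  suffices ∀ j p, Fintype.card ι ≤ p + j → Good A ι p from this _ p (Nat.le_add_left _ _)
  intro j
  induction j with
  | zero => exact fun p hp => good_of_card_le hp
  | succ j ih => exact fun p hp => good_step (ih (p + 1) (by omega))

end Groth.Agent.Serre71
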