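import Groth.Agent.Serre71.Sections
import Groth.Agent.Pn71.Above
import Groth.Agent.QC70.Hom
import Groth.Agent.QC70.CohOps
import Groth.Agent.QC70.Finite
import Groth.Agent.QCqs72.Basic

/-! The Čech model inside the skyscraper of the residue field. -/

set_option linter.unusedSectionVars false
set_option linter.style.haveILetI false
set_option maxSynthPendingDepth 6
set_option backward.isDefEq.respectTransparency.types false

universe u

noncomputable section

open CategoryTheory Limits AlgebraicGeometry TopologicalSpace Opposite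

namespace Groth.Agent.Serre71

open Pn71 QC70

section Push

variable {X Z : Scheme.{u}} {K : CommRingCat.{u}} (g : Z ⟶ X) (η : Spec K ⟶ Z)
  (pt : Spec K ⟶ X) (e : η ≫ g = pt)

lemma preimage_eq_of_comp (e : η ≫ g = pt) (W : X.Opens) : pt ⁻¹ᵁ W = η ⁻¹ᵁ (g ⁻¹ᵁ W) := by
  rw [← e]; rfl

/-- The scalar times the pullback, on sections. -/
def evalFun (c : Γ(Spec K, ⊤)) (W : X.Opens) (x : Γ(Z, g ⁻¹ᵁ W)) : Γ(Spec K, pt ⁻¹ᵁ W) :=
  resO (Spec K) le_top c * η.appLE (g ⁻¹ᵁ W) (pt ⁻¹ᵁ W) (preimage_eq_of_comp g η pt e W).le x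

lemma evalFun_add (c : Γ(Spec K, ⊤)) (W : X.Opens) (a b : Γ(Z, g ⁻¹ᵁ W)) :
    evalFun g η pt e c W (a + b) = evalFun g η pt e c W a + evalFun g η pt e c W b := by
  simp only [evalFun, map_add, mul_add]

lemma evalFun_mul (c : Γ(Spec K, ⊤)) (W : X.Opens) (r : Γ(X, W)) (a : Γ(Z, g ⁻¹ᵁ W)) :
    evalFun g η pt e c W (g.app W r * a) = pt.app W r * evalFun g η pt e c W a := by
  subst e
  simp only [evalFun, map_mul]
  rw [mul_left_comm]
  rw [← CommRingCat.comp_apply, Scheme.Hom.comp_app, Scheme.Hom.app_eq_appLE η]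
  rfl

lemma evalFun_res (c : Γ(Spec K, ⊤)) {W W' : X.Opens} (h : W' ≤ W) (a : Γ(Z, g ⁻¹ᵁ W)) :
    evalFun g η pt e c W' (resO Z (g.preimage_mono h) a) =
      resO (Spec K) (pt.preimage_mono h) (evalFun g η pt e c W a) := by
  simp only [evalFun, resO, map_mul, ← CommRingCat.comp_apply, Scheme.Hom.map_appLE,
    Scheme.Hom.appLE_map, ← Functor.map_comp]
  rfl

/-- Pullback to the point followed by multiplication by a scalar. -/
def pushEval (c : Γ(Spec K, ⊤)) :
    (Coh.push g).obj (unitMod Z) ⟶ (Coh.push pt).obj (unitMod (Spec K)) :=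
  HomOn.toHom
    { app := fun W _ =>
        { toFun := fun x => toUnit (evalFun g η pt e c W x)
          map_add' := evalFun_add g η pt e c W
          map_smul' := evalFun_mul g η pt e c W }
      app_res := fun _ h s => evalFun_res g η pt e c h s }

lemma pushEval_app (c : Γ(Spec K, ⊤)) (W : X.Opens) (x : Γ(Z, g ⁻¹ᵁ W)) :
    (pushEval g η pt e c).app W x = toUnit (resO (Spec K) le_top c *
      η.appLE (g ⁻¹ᵁ W) (pt ⁻¹ᵁ W) (preimage_eq_of_comp g η pt e W).le x) := rfl

lemma appLE_θ_id {W : Z.Opens} {U : (Spec K).Opens} (hle : U ≤ η ⁻¹ᵁ W)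
    (h : ⊤ ≤ (𝟙 (Spec K)) ⁻¹ᵁ U) (h' : ⊤ ≤ η ⁻¹ᵁ W) :
    η.appLE W U hle ≫ θ (𝟙 (Spec K)) U h = θ η W h' := by
  rw [θ, ← Category.assoc, Scheme.Hom.appLE_comp_appLE]
  simp only [Category.id_comp]
  rfl

end Push

variable {X : Scheme.{u}}

/-- The skyscraper of the residue field. -/
abbrev P (y : X) : X.Modules :=
  (Coh.push (X.fromSpecResidueField y)).obj (unitMod (Spec (X.residueField y)))

lemma le_preimage_pt {y : X} {W : X.Opens} (hy : y ∈ W) :
    ⊤ ≤ (𝟙 (Spec (X.residueField y))) ⁻¹ᵁ (X.fromSpecResidueField y ⁻¹ᵁ W) := fun z _ => by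
  change X.fromSpecResidueField y z ∈ W
  rw [Scheme.fromSpecResidueField_apply]
  exact hy

/-- The value of a section of the skyscraper. -/
def val {y : X} {W : X.Opens} (hy : y ∈ W) : Γ(P y, W) →+ Kf y :=
  (θ (𝟙 (Spec (X.residueField y))) (X.fromSpecResidueField y ⁻¹ᵁ W) (le_preimage_pt hy)).hom.toAddMonoidHom

lemma val_injective {y : X} {W : X.Opens} (hy : y ∈ W) : Function.Injective (val hy) :=
  θ_injective (𝟙 _) _ (le_preimage_pt hy)

lemma val_res {y : X} {W W' : X.Opens} (h : W' ≤ W) (hy : y ∈ W') (x : Γ(P y, W)) :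
    val hy (res (P y) h x) = val (h hy) x :=
  congrArg (fun φ => φ x) (θ_map (𝟙 (Spec (X.residueField y)))
    ((X.fromSpecResidueField y).preimage_mono h) (le_preimage_pt (h hy)) (le_preimage_pt hy))

lemma val_smul_θ {y : X} {W : X.Opens} (hy : y ∈ W) (v : Γ(X, W)) (x : Γ(P y, W)) :
    val hy (v • x) =
      θ (X.fromSpecResidueField y) W (le_preimage_pt hy) v * val hy x := by
  change θ (𝟙 _) _ _ ((X.fromSpecResidueField y).app W v *
    (show Γ(Spec (X.residueField y), X.fromSpecResidueField y ⁻¹ᵁ W) from x)) = _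
  rw [map_mul]
  refine congrArg₂ (· * ·) ?_ rfl
  exact congrArg (fun φ => φ v) ((θ_comp (𝟙 (Spec (X.residueField y)))
    (X.fromSpecResidueField y) W _).trans (θ_congr (Category.id_comp _) W _))

lemma val_smul {y : X} {V : X.Opens} (hV : IsAffineOpen V) (hy : y ∈ V) (v : Γ(X, V))
    (x : Γ(P y, V)) : val hy (v • x) = X.evaluation V y hy v * val hy x := by
  rw [val_smul_θ, evaluation_eq_θ hV y hy]

lemma subsingleton_P {y : X} {W : X.Opens} (hy : y ∉ W) : Subsingleton Γ(P y, W) := by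
  have h : X.fromSpecResidueField y ⁻¹ᵁ W = ⊥ := by
    refine eq_bot_iff.2 fun z hz => hy ?_
    have : X.fromSpecResidueField y z ∈ W := hz
    rwa [Scheme.fromSpecResidueField_apply] at this
  change Subsingleton Γ(Spec (X.residueField y), X.fromSpecResidueField y ⁻¹ᵁ W)
  rw [h]
  infer_instance

variable {A : Type u} [CommRing A] [X.Over (Spec (CommRingCat.of A))] {y : X} [Algebra A (Kf y)]
  (halg : Spec.map (CommRingCat.ofHom (algebraMap A (Kf y))) =
    X.fromSpecResidueField y ≫ X ↘ Spec (CommRingCat.of A))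

include halg in
lemma val_smul_top (a : A) (x : Γ(P y, ⊤)) :
    val (W := ⊤) trivial
      (((X ↘ Spec (CommRingCat.of A)).appTop ((Scheme.ΓSpecIso (CommRingCat.of A)).inv a) :
        Γ(X, ⊤)) • x) = algebraMap A (Kf y) a * val (W := ⊤) trivial x := by
  rw [val_smul_θ]
  congr 1
  have h := congrArg ((Scheme.ΓSpecIso (CommRingCat.of A)).inv ≫ ·)
    ((θ_comp (X.fromSpecResidueField y) (X ↘ Spec (CommRingCat.of A)) ⊤ le_top).trans
      (θ_congr halg.symm ⊤ le_top))
  exact congrArg (fun φ => φ a) (h.trans (θ_top_specMap _ _))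

namespace Charts

variable (C : Charts A y) [IsProper (X ↘ Spec (CommRingCat.of A))] (n : ℤ)

variable {p : ℕ} (σ : Fin (p + 1) → C.Idx)

instance isAffineHom_g : IsAffineHom (C.g halg σ) := by
  haveI : IsAffineHom (C.g halg σ ≫ X ↘ Spec (CommRingCat.of A)) := by
    rw [C.g_comp halg σ]
    infer_instance
  exact IsAffineHom.of_comp _ (X ↘ Spec (CommRingCat.of A))

/-- A term of the model complex. -/
def Q : X.Modules := (Coh.push (C.g halg σ)).obj (unitMod (Spec (CommRingCat.of (C.Bs σ))))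

instance isQuasicoherent_Q : (C.Q halg σ).IsQuasicoherent :=
  QCqs72.isQuasicoherent_pushforward (M := unitMod _) (C.g halg σ)

/-- The twisting scalar. -/
def cst : Kf y := (((C.t (σ 0)) ^ n : (Kf y)ˣ) : Kf y)

/-- A term as a submodule of the skyscraper. -/
def j : C.Q halg σ ⟶ P y :=
  pushEval (C.g halg σ) (Spec.map (C.incl σ)) (X.fromSpecResidueField y) (C.incl_g halg σ)
    ((Scheme.ΓSpecIso (X.residueField y)).inv (C.cst n σ))

lemma val_j {W : X.Opens} (hy : y ∈ W) (x : Γ(C.Q halg σ, W)) :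
    val hy ((C.j halg n σ).app W x) = C.cst n σ *
      θ (Spec.map (C.incl σ)) (C.g halg σ ⁻¹ᵁ W) (C.mem_preimage_g halg σ hy) x := by
  refine (map_mul (θ (𝟙 (Spec (X.residueField y))) (X.fromSpecResidueField y ⁻¹ᵁ W)
    (le_preimage_pt hy)).hom _ _).trans (congrArg₂ (· * ·) ?_ ?_)
  · have h := congrArg (fun φ => φ ((Scheme.ΓSpecIso (X.residueField y)).inv (C.cst n σ)))
      (θ_map (𝟙 (Spec (X.residueField y))) (le_top : X.fromSpecResidueField y ⁻¹ᵁ W ≤ ⊤) le_top
        (le_preimage_pt hy))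
    refine h.trans ?_
    have h2 := congrArg (fun φ => φ (C.cst n σ)) (θ_top_specMap (𝟙 (X.residueField y)) le_top)
    refine Eq.trans ?_ h2
    exact congrArg (fun φ : Γ(Spec (X.residueField y), ⊤) ⟶ X.residueField y =>
      φ ((Scheme.ΓSpecIso (X.residueField y)).inv (C.cst n σ)))
      (θ_congr (Spec.map_id (X.residueField y)).symm ⊤ le_top)
  · exact congrArg (fun φ => φ x) (appLE_θ_id (Spec.map (C.incl σ)) _ (le_preimage_pt hy) _)

lemma subsingleton_Q {W : X.Opens} (hy : y ∉ W) : Subsingleton Γ(C.Q halg σ, W) := by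
  change Subsingleton Γ(Spec (CommRingCat.of (C.Bs σ)), C.g halg σ ⁻¹ᵁ W)
  rw [C.preimage_g_eq_bot halg σ hy]
  infer_instance

instance mono_j : Mono (C.j halg n σ) := by
  refine mono_of_app_injective _ fun W => ?_
  by_cases hy : y ∈ W
  · intro a b h
    have h' := congrArg (val hy) h
    rw [val_j, val_j] at h'
    exact θ_injective (Spec.map (C.incl σ)) _ _ (mul_left_cancel₀ (Units.ne_zero _) h')
  · have := C.subsingleton_Q halg σ hy
    exact Function.injective_of_subsingleton _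

lemma mono_cell (i : C.Idx) (m : ℤ) :
    mono C.t (Finsupp.single i m) = (((C.t i) ^ m : (Kf y)ˣ) : Kf y) := by
  classical
  rw [mono, Finset.prod_eq_single i (fun b _ hb => by simp [hb]) (by simp)]
  simp

lemma mul_mem_Mmod {B : Type u} [CommRing B] [Algebra B (Kf y)] {x : Kf y}
    (hx : x ∈ Mmod B C.t 0 σ) : C.cst n σ * x ∈ Mmod B C.t n σ := by
  classical
  induction hx using Submodule.span_induction with
  | mem x hx =>
    obtain ⟨a, ha, rfl⟩ := hx
    refine Submodule.subset_span ⟨a + Finsupp.single (σ 0) n, ⟨?_, fun i hi => ?_⟩, ?_⟩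
    · rw [deg_add, ha.1, zero_add]
      simp [deg, Finsupp.single_apply]
    · rcases eq_or_ne (σ 0) i with h | h
      · exact ⟨0, h⟩
      · rw [Finsupp.add_apply, Finsupp.single_apply, if_neg h, add_zero] at hi
        exact ha.2 i hi
    · rw [mono_add, mono_cell, mul_comm]
      rfl
  | zero => rw [mul_zero]; exact zero_mem _
  | add a b _ _ iha ihb => rw [mul_add]; exact add_mem iha ihb
  | smul v a _ iha => rw [mul_smul_comm]; exact Submodule.smul_mem _ v iha

lemma exists_mul_eq {B : Type u} [CommRing B] [Algebra B (Kf y)] {z : Kf y}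
    (hz : z ∈ Mmod B C.t n σ) : ∃ x ∈ Mmod B C.t 0 σ, C.cst n σ * x = z := by
  classical
  induction hz using Submodule.span_induction with
  | mem z hz =>
    obtain ⟨a, ha, rfl⟩ := hz
    refine ⟨mono C.t (a + Finsupp.single (σ 0) (-n)), Submodule.subset_span
      ⟨_, ⟨?_, fun i hi => ?_⟩, rfl⟩, ?_⟩
    · rw [deg_add, ha.1]
      simp [deg, Finsupp.single_apply]
    · rcases eq_or_ne (σ 0) i with h | h
      · exact ⟨0, h⟩
      · rw [Finsupp.add_apply, Finsupp.single_apply, if_neg h, add_zero] at hi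
        exact ha.2 i hi
    · rw [cst, ← C.mono_cell, ← mono_add, add_left_comm, ← Finsupp.single_add, add_neg_cancel,
        Finsupp.single_zero, add_zero]
  | zero => exact ⟨0, zero_mem _, mul_zero _⟩
  | add a b _ _ iha ihb =>
    obtain ⟨xa, hxa, rfl⟩ := iha
    obtain ⟨xb, hxb, rfl⟩ := ihb
    exact ⟨xa + xb, add_mem hxa hxb, mul_add _ _ _⟩
  | smul v a _ iha =>
    obtain ⟨xa, hxa, rfl⟩ := iha
    exact ⟨v • xa, Submodule.smul_mem _ v hxa, mul_smul_comm _ _ _⟩

include halg in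
theorem range_j {V : X.Opens} (hV : IsAffineOpen V) (hy : y ∈ V) :
    letI := evalAlg V hy
    Set.range (fun x => val hy ((C.j halg n σ).app V x)) = (Mmod Γ(X, V) C.t n σ : Set (Kf y)) := by
  letI := evalAlg V hy
  ext z
  have hr := C.range_θ halg σ hV hy
  constructor
  · rintro ⟨x, rfl⟩
    change val hy _ ∈ _
    rw [val_j]
    exact C.mul_mem_Mmod n σ (hr.le ⟨x, rfl⟩)
  · intro hz
    obtain ⟨x, hx, rfl⟩ := C.exists_mul_eq n σ hz
    obtain ⟨s, rfl⟩ := hr.ge hx
    exact ⟨s, C.val_j halg n σ hy s⟩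

include halg in
theorem range_j_top :
    Set.range (fun x => val (W := ⊤) trivial ((C.j halg n σ).app ⊤ x)) =
      (Mmod A C.t n σ : Set (Kf y)) := by
  ext z
  have hθ : ∀ b : C.Bs σ, θ (Spec.map (C.incl σ)) ⊤ le_top ((Scheme.ΓSpecIso _).inv b) = b.1 :=
    fun b => congrArg (fun φ => φ b) (θ_top_specMap (C.incl σ) le_top)
  constructor
  · rintro ⟨x, rfl⟩
    change val (W := ⊤) trivial _ ∈ _
    rw [val_j]
    obtain ⟨b, hb⟩ := (ConcreteCategory.bijective_of_isIso
      (Scheme.ΓSpecIso (CommRingCat.of (C.Bs σ))).inv).2 x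
    refine C.mul_mem_Mmod n σ ?_
    rw [← hb]
    exact (hθ b).symm ▸ b.2
  · intro hz
    obtain ⟨x, hx, rfl⟩ := C.exists_mul_eq n σ hz
    refine ⟨(Scheme.ΓSpecIso (CommRingCat.of (C.Bs σ))).inv ⟨x, hx⟩, ?_⟩
    exact (C.val_j halg n σ (W := ⊤) trivial _).trans (congrArg (C.cst n σ * ·) (hθ ⟨x, hx⟩))

end Charts

end Groth.Agent.Serre71
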