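import Groth.Agent.Serre71.Birational
import Mathlib.AlgebraicGeometry.Morphisms.ClosedImmersion
import Mathlib.AlgebraicGeometry.Morphisms.Separated

/-! Sections of the model over affine opens, inside the residue field. -/

set_option linter.unusedSectionVars false
set_option linter.style.haveILetI false
set_option maxSynthPendingDepth 6

universe u

noncomputable section

open CategoryTheory Limits AlgebraicGeometry TopologicalSpace Opposite TensorProduct

namespace Groth.Agent.Serre71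

open Pn71

section Theta

variable {Y Z : Scheme.{u}} {K : CommRingCat.{u}}

/-- Pullback of sections along a point. -/
def θ (q : Spec K ⟶ Y) (W : Y.Opens) (h : ⊤ ≤ q ⁻¹ᵁ W) : Γ(Y, W) ⟶ K :=
  q.appLE W ⊤ h ≫ (Scheme.ΓSpecIso K).hom

lemma θ_map (q : Spec K ⟶ Y) {W W' : Y.Opens} (hW : W' ≤ W) (h : ⊤ ≤ q ⁻¹ᵁ W) (h' : ⊤ ≤ q ⁻¹ᵁ W') :
    Y.presheaf.map (homOfLE hW).op ≫ θ q W' h' = θ q W h := by
  rw [θ, ← Category.assoc, Scheme.Hom.map_appLE]
  rfl

lemma θ_comp (q : Spec K ⟶ Z) (g : Z ⟶ Y) (W : Y.Opens) (h : ⊤ ≤ (q ≫ g) ⁻¹ᵁ W) :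
    g.app W ≫ θ q (g ⁻¹ᵁ W) h = θ (q ≫ g) W h := by
  simp only [θ, Scheme.Hom.comp_appLE, Category.assoc]

lemma θ_congr {q q' : Spec K ⟶ Y} (e : q = q') (W : Y.Opens) (h : ⊤ ≤ q ⁻¹ᵁ W) :
    θ q W h = θ q' W (e ▸ h) := by subst e; rfl

lemma θ_top_specMap {A : CommRingCat.{u}} (φ : A ⟶ K) (h : ⊤ ≤ (Spec.map φ) ⁻¹ᵁ ⊤) :
    (Scheme.ΓSpecIso A).inv ≫ θ (Spec.map φ) ⊤ h = φ := by
  rw [θ, show (Spec.map φ).appLE ⊤ ⊤ h = (Spec.map φ).appTop from
    (Scheme.Hom.app_eq_appLE _).symm, ← Category.assoc, ← Scheme.ΓSpecIso_inv_naturality,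
    Category.assoc, Iso.inv_hom_id, Category.comp_id]

lemma mem_preimage_of_closedPoint {K' : Type u} [Field K'] (q : Spec (CommRingCat.of K') ⟶ Y)
    (W : Y.Opens) (h : q (IsLocalRing.closedPoint K') ∈ W) : ⊤ ≤ q ⁻¹ᵁ W := fun x _ => by
  rw [Subsingleton.elim x (IsLocalRing.closedPoint K')]
  exact h

lemma θ_injective [IsReduced Y] (q : Spec K ⟶ Y) [IsDominant q] [IsReduced (Spec K)] (W : Y.Opens)
    (h : ⊤ ≤ q ⁻¹ᵁ W) : Function.Injective (θ q W h) := by
  rw [injective_iff_map_eq_zero]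
  intro s hs
  have h0 : q.appLE W ⊤ h s = 0 := by
    apply (ConcreteCategory.bijective_of_isIso (Scheme.ΓSpecIso K).hom).1
    rw [map_zero]
    exact hs
  have hb : (Spec K).basicOpen (q.appLE W ⊤ h s) = ⊥ := by rw [h0, Scheme.basicOpen_zero]
  rw [Scheme.basicOpen_appLE] at hb
  refine eq_zero_of_basicOpen_eq_bot s ?_
  by_contra hne
  obtain ⟨x, hx⟩ : ((Y.basicOpen s : Y.Opens) : Set Y).Nonempty := by
    rw [Set.nonempty_iff_ne_empty]
    exact fun e => hne (SetLike.coe_injective e)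
  obtain ⟨z, hz⟩ := q.denseRange.exists_mem_open (Y.basicOpen s).isOpen ⟨x, hx⟩
  have : z ∈ (⊥ : (Spec K).Opens) := hb.le ⟨trivial, hz⟩
  exact this

end Theta

variable {X : Scheme.{u}}

lemma θ_specMap_fromSpec {V : X.Opens} (hV : IsAffineOpen V) {K : CommRingCat.{u}}
    (ψ : Γ(X, V) ⟶ K) (h : ⊤ ≤ (Spec.map ψ ≫ hV.fromSpec) ⁻¹ᵁ V) :
    θ (Spec.map ψ ≫ hV.fromSpec) V h = ψ := by
  rw [← θ_comp, hV.fromSpec_app_self, Category.assoc]
  have h' : (Spec Γ(X, V)).presheaf.map (eqToHom hV.fromSpec_preimage_self).op ≫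
      θ (Spec.map ψ) (hV.fromSpec ⁻¹ᵁ V) (by
        rw [hV.fromSpec_preimage_self]; exact le_top) = θ _ ⊤ le_top :=
    θ_map _ hV.fromSpec_preimage_self.le _ _
  exact (congrArg _ h').trans (θ_top_specMap _ _)

lemma evaluation_eq_θ {V : X.Opens} (hV : IsAffineOpen V) (y : X) (hy : y ∈ V)
    (h : ⊤ ≤ X.fromSpecResidueField y ⁻¹ᵁ V) :
    θ (X.fromSpecResidueField y) V h = X.evaluation V y hy :=
  (θ_congr (map_evaluation_fromSpec hV y hy).symm V h).trans (θ_specMap_fromSpec hV _ _)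

/-- Sections over the preimage of an affine open of a chart mapping to a separated scheme are sums
of products. -/
theorem θ_mem_of_isSeparated {S : CommRingCat.{u}} (s : X ⟶ Spec S) [IsSeparated s]
    {V : X.Opens} (hV : IsAffineOpen V) {R K : CommRingCat.{u}} (g : Spec R ⟶ X)
    (φV : S ⟶ Γ(X, V)) (hφV : hV.fromSpec ≫ s = Spec.map φV)
    (φR : S ⟶ R) (hφR : g ≫ s = Spec.map φR)
    (β : R ⟶ K) (ev : Γ(X, V) ⟶ K) (hev : Spec.map ev ≫ hV.fromSpec = Spec.map β ≫ g)
    (h : ⊤ ≤ Spec.map β ⁻¹ᵁ (g ⁻¹ᵁ V)) (T : AddSubmonoid K)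
    (hT : ∀ v b, ev v * β b ∈ T) (x : Γ(Spec R, g ⁻¹ᵁ V)) : θ (Spec.map β) (g ⁻¹ᵁ V) h x ∈ T := by
  algebraize [φV.hom, φR.hom, ev.hom.comp φV.hom]
  let q : pullback hV.fromSpec g ⟶ Spec R := pullback.snd _ _
  let ηP : Spec K ⟶ pullback hV.fromSpec g := pullback.lift (Spec.map ev) (Spec.map β) hev
  let md := pullback.mapDesc hV.fromSpec g s ≫ (pullback.congrHom hφV hφR).hom ≫
      (pullbackSpecIso S Γ(X, V) R).hom
  haveI : IsClosedImmersion md := inferInstance
  have hS : φV ≫ ev = φR ≫ β := Spec.map_injective (by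
    rw [Spec.map_comp, Spec.map_comp, ← hφV, ← hφR, reassoc_of% hev])
  let f : Γ(X, V) →ₐ[S] K := { ev.hom with commutes' := fun a => rfl }
  let b' : R →ₐ[S] K :=
    { β.hom with commutes' := fun a => (congrArg (fun φ => φ a) hS).symm }
  let μ : Γ(X, V) ⊗[S] R →ₐ[S] K :=
    Algebra.TensorProduct.lift f b' fun _ _ => Commute.all _ _
  have hμ : ηP ≫ md = Spec.map (CommRingCat.ofHom μ.toRingHom) := by
    rw [← cancel_mono (pullbackSpecIso S Γ(X, V) R).inv]
    simp only [md, Category.assoc, Iso.hom_inv_id, Category.comp_id]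
    apply pullback.hom_ext
    · simp only [Category.assoc, pullbackSpecIso_inv_fst, pullback.congrHom_hom, Category.comp_id, pullback.mapDesc, pullback.map, ηP]
      erw [pullback.lift_fst, pullback.lift_fst, pullback.lift_fst]
      rw [← Spec.map_comp]
      refine congrArg Spec.map ?_
      ext v
      change _ = μ (v ⊗ₜ 1)
      rw [Algebra.TensorProduct.lift_tmul, map_one, mul_one]
      rfl
    · simp only [Category.assoc, pullbackSpecIso_inv_snd, pullback.congrHom_hom, Category.comp_id, pullback.mapDesc, pullback.map, ηP]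
      erw [pullback.lift_snd, pullback.lift_snd, pullback.lift_snd]
      rw [← Spec.map_comp]
      refine congrArg Spec.map ?_
      ext b
      change _ = μ (1 ⊗ₜ b)
      rw [Algebra.TensorProduct.lift_tmul, map_one, one_mul]
      rfl
  obtain ⟨-, hsurj⟩ := IsClosedImmersion.isAffine_surjective_of_isAffine md
  have hq : ⊤ ≤ q ⁻¹ᵁ (g ⁻¹ᵁ V) := by
    intro z _
    change (pullback.snd hV.fromSpec g ≫ g) z ∈ V
    rw [← pullback.condition]
    exact hV.range_fromSpec.le ⟨_, rfl⟩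
  obtain ⟨w, hw⟩ := hsurj (q.appLE _ ⊤ hq x)
  obtain ⟨z, rfl⟩ := (ConcreteCategory.bijective_of_isIso
    (Scheme.ΓSpecIso (CommRingCat.of (Γ(X, V) ⊗[S] R))).inv).2 w
  have hθ : θ (Spec.map β) (g ⁻¹ᵁ V) h x = μ z := by
    have hqη : ⊤ ≤ (ηP ≫ q) ⁻¹ᵁ (g ⁻¹ᵁ V) := by
      rw [pullback.lift_snd]; exact h
    have e1 : θ (ηP ≫ q) (g ⁻¹ᵁ V) hqη = q.appLE _ ⊤ hq ≫ θ ηP ⊤ le_top := by
      simp only [θ]
      rw [← Category.assoc]
      exact congrArg (· ≫ _) (Scheme.Hom.appLE_comp_appLE _ _ _ _ _ _ _).symm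
    have e2 : θ (Spec.map β) (g ⁻¹ᵁ V) h = q.appLE _ ⊤ hq ≫ θ ηP ⊤ le_top :=
      (θ_congr (pullback.lift_snd _ _ _).symm _ h).trans e1
    have e4 := (θ_comp ηP md ⊤ le_top).trans (θ_congr hμ ⊤ le_top)
    have e5 := (congrArg ((Scheme.ΓSpecIso _).inv ≫ ·) e4).trans (θ_top_specMap _ _)
    have e6 : θ ηP ⊤ le_top (md.appTop ((Scheme.ΓSpecIso _).inv z)) = μ z :=
      congrArg (fun φ => φ z) e5
    rw [hw] at e6
    exact (congrArg (fun φ => φ x) e2).trans e6
  rw [hθ]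
  clear hθ hw
  induction z using TensorProduct.induction_on with
  | zero => rw [map_zero]; exact zero_mem _
  | tmul v b => rw [Algebra.TensorProduct.lift_tmul]; exact hT v b
  | add a b ha hb => rw [map_add]; exact add_mem ha hb

variable {A : Type u} [CommRing A] [X.Over (Spec (CommRingCat.of A))] {y : X}
  [Algebra A (Kf y)]
  (halg : Spec.map (CommRingCat.ofHom (algebraMap A (Kf y))) =
    X.fromSpecResidueField y ≫ X ↘ Spec (CommRingCat.of A))

/-- Evaluation at `y`, as an algebra structure. -/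
@[reducible] def evalAlg (V : X.Opens) (hy : y ∈ V) : Algebra Γ(X, V) (Kf y) :=
  (X.evaluation V y hy).hom.toAlgebra

namespace Charts

variable (C : Charts A y) [IsProper (X ↘ Spec (CommRingCat.of A))] {p : ℕ}
  (σ : Fin (p + 1) → C.Idx)

/-- The map of a coordinate chart to `X`. -/
def g : Spec (CommRingCat.of (C.Bs σ)) ⟶ X := (C.exists_g halg σ).choose

lemma incl_g : Spec.map (C.incl σ) ≫ C.g halg σ = X.fromSpecResidueField y :=
  (C.exists_g halg σ).choose_spec

instance isDominant_incl : IsDominant (Spec.map (C.incl σ)) := by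
  constructor
  change DenseRange (PrimeSpectrum.comap (C.Bs σ).val.toRingHom)
  refine (PrimeSpectrum.denseRange_comap_iff_ker_le_nilRadical _).2 ?_
  rw [(RingHom.injective_iff_ker_eq_bot _).1 Subtype.val_injective]
  exact bot_le

instance isReduced_chart : IsReduced (Spec (CommRingCat.of (C.Bs σ))) := inferInstance

include halg in
lemma g_comp : C.g halg σ ≫ X ↘ Spec (CommRingCat.of A) =
    Spec.map (CommRingCat.ofHom (algebraMap A (C.Bs σ))) := by
  refine ext_of_isDominant (Spec.map (C.incl σ)) ?_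
  rw [← Category.assoc, incl_g, ← halg, ← Spec.map_comp]
  rfl

lemma mem_preimage_g {V : X.Opens} (hy : y ∈ V) :
    ⊤ ≤ Spec.map (C.incl σ) ⁻¹ᵁ (C.g halg σ ⁻¹ᵁ V) := by
  refine mem_preimage_of_closedPoint (Y := Spec (CommRingCat.of (C.Bs σ)))
    (K' := Kf y) (Spec.map (C.incl σ)) _ ?_
  have h := congrArg (fun φ : Spec (X.residueField y) ⟶ X => φ (IsLocalRing.closedPoint (Kf y)))
    (C.incl_g halg σ)
  change (Spec.map (C.incl σ) ≫ C.g halg σ) (IsLocalRing.closedPoint (Kf y)) ∈ V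
  rw [show (Spec.map (C.incl σ) ≫ C.g halg σ) (IsLocalRing.closedPoint (Kf y)) = y from
    h.trans (Scheme.fromSpecResidueField_apply _ _)]
  exact hy

lemma preimage_g_eq_bot {V : X.Opens} (hy : y ∉ V) : C.g halg σ ⁻¹ᵁ V = ⊥ := by
  by_contra hne
  obtain ⟨x, hx⟩ : ((C.g halg σ ⁻¹ᵁ V : _) : Set (Spec (CommRingCat.of (C.Bs σ)))).Nonempty := by
    rw [Set.nonempty_iff_ne_empty]
    exact fun e => hne (SetLike.coe_injective e)
  obtain ⟨z, hz⟩ := (Spec.map (C.incl σ)).denseRange.exists_mem_open (C.g halg σ ⁻¹ᵁ V).isOpen ⟨x, hx⟩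
  refine hy ?_
  have h2 : (Spec.map (C.incl σ) ≫ C.g halg σ) z ∈ V := hz
  rwa [C.incl_g halg σ, Scheme.fromSpecResidueField_apply] at h2

include halg in
lemma coe_mem_Mmod {V : X.Opens} (hV : IsAffineOpen V) (hy : y ∈ V) {b : Kf y}
    (hb : b ∈ Mmod A C.t 0 σ) : letI := evalAlg V hy; b ∈ Mmod Γ(X, V) C.t 0 σ := by
  letI := evalAlg V hy
  induction hb using Submodule.span_induction with
  | mem x hx => exact Submodule.subset_span hx
  | zero => exact zero_mem _
  | add a b _ _ ha hb => exact add_mem ha hb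
  | smul r a _ ha =>
    obtain ⟨φ, -, hev⟩ := exists_structureMap halg hV hy
    have : r • a = (φ r) • a := by
      rw [Algebra.smul_def, Algebra.smul_def, ← hev]
      rfl
    rw [this]
    exact Submodule.smul_mem _ _ ha

/-- Sections over the preimage of an affine open, inside the residue field. -/
theorem range_θ {V : X.Opens} (hV : IsAffineOpen V) (hy : y ∈ V) :
    letI := evalAlg V hy
    Set.range (θ (Spec.map (C.incl σ)) (C.g halg σ ⁻¹ᵁ V) (C.mem_preimage_g halg σ hy)) =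
      (Mmod Γ(X, V) C.t 0 σ : Set (Kf y)) := by
  letI := evalAlg V hy
  set η := Spec.map (C.incl σ)
  set W := C.g halg σ ⁻¹ᵁ V
  set h := C.mem_preimage_g halg σ hy
  have hcomp : ∀ v, θ η W h ((C.g halg σ).app V v) = X.evaluation V y hy v := by
    intro v
    have e := (θ_comp η (C.g halg σ) V h).trans (θ_congr (C.incl_g halg σ) V h)
    rw [evaluation_eq_θ hV y hy] at e
    exact congrArg (fun φ => φ v) e
  apply Set.Subset.antisymm
  · rintro _ ⟨x, rfl⟩
    obtain ⟨φ, hφ, -⟩ := exists_structureMap halg hV hy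
    exact θ_mem_of_isSeparated (K := X.residueField y) (X ↘ Spec (CommRingCat.of A)) hV
      (C.g halg σ) φ hφ _ (C.g_comp halg σ) (C.incl σ) (X.evaluation V y hy)
      ((map_evaluation_fromSpec hV y hy).trans (C.incl_g halg σ).symm) h
      (Mmod Γ(X, V) C.t 0 σ).toAddSubmonoid
      (fun v b => Submodule.smul_mem (Mmod Γ(X, V) C.t 0 σ) v (C.coe_mem_Mmod halg σ hV hy b.2)) x
  · intro x hx
    induction hx using Submodule.span_induction with
    | mem m hm =>
      have hb : m ∈ C.Bs σ := Submodule.subset_span hm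
      refine ⟨(Spec (CommRingCat.of (C.Bs σ))).presheaf.map (homOfLE le_top).op
        ((Scheme.ΓSpecIso _).inv ⟨m, hb⟩), ?_⟩
      have e1 := congrArg (fun φ => φ ((Scheme.ΓSpecIso _).inv (⟨m, hb⟩ : C.Bs σ)))
        (θ_map η (le_top : W ≤ ⊤) le_top h)
      refine e1.trans ?_
      exact congrArg (fun φ => φ (⟨m, hb⟩ : C.Bs σ)) (θ_top_specMap (C.incl σ) le_top)
    | zero => exact ⟨0, map_zero _⟩
    | add a b _ _ iha ihb =>
      obtain ⟨xa, rfl⟩ := iha
      obtain ⟨xb, rfl⟩ := ihb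
      exact ⟨xa + xb, map_add _ _ _⟩
    | smul v a _ iha =>
      obtain ⟨xa, rfl⟩ := iha
      refine ⟨(C.g halg σ).app V v * xa, ?_⟩
      rw [map_mul, hcomp]
      rfl

end Charts

end Groth.Agent.Serre71
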